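import Groth.Prelude.Def_RelProj2
import Groth.Agent.Lib.QCAlgSub.Basic

/-!
# The symmetric algebra of a quasi-coherent module is generated by it
-/

set_option autoImplicit false
universe u

open CategoryTheory Limits AlgebraicGeometry Opposite TopologicalSpace DirectSum
open scoped HomogeneousIdeal

namespace Groth.Agent.Lib.SymAlg.Gen

open Groth.Agent.Lib.QCAlgSub.Basic

noncomputable section

variable {S : Scheme.{u}} {E : S.Modules}

/-- A module map lifts to the subalgebra it generates. -/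
def toSub [E.IsQuasicoherent] (B : RelSpec.QCAlg S) (j : E ⟶ B.toModule) :
    E ⟶ (subAlg B j).toModule :=
  ⟨letI := (subAlg B j).moduleSect
   PresheafOfModules.homMk
    { app := fun V => AddCommGrpCat.ofHom (AddMonoidHom.mk'
        (fun e : Γ(E, V.unop) => (⟨jm B j V.unop e, adj_le_loc B j _ (jm_mem_adj B j _ e)⟩ :
          loc B j V.unop))
        fun e e' => Subtype.ext (map_add (j.app V.unop).hom e e'))
      naturality := fun V W g => by
        ext e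
        exact Subtype.ext (rs_jm B j (leOfHom g.unop) e).symm }
    fun V r e => Subtype.ext (Scheme.Modules.Hom.app_smul j (U := V.unop) r e)⟩

theorem toSub_incl [E.IsQuasicoherent] (B : RelSpec.QCAlg S) (j : E ⟶ B.toModule) :
    toSub B j ≫ RelSpec.QCAlg.Hom.toModuleMap (incl B j) = j := by
  ext U e
  rfl

/-- On affine opens the symmetric algebra is generated by the functions and the module. -/
theorem adj_eq_top [E.IsQuasicoherent] {A : RelSpec.QCAlg S} {j : E ⟶ A.toModule}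
    (h : RelSpec.IsSymAlg E A j) {U : S.Opens} (hU : IsAffineOpen U) : adj A j U = ⊤ := by
  obtain ⟨ψ, hψ, -⟩ := h (subAlg A j) (toSub A j)
  have hid : ψ ≫ incl A j = 𝟙 A := by
    refine (h A j).unique ?_ ?_
    · refine Eq.trans ?_ (toSub_incl A j)
      rw [← hψ, Category.assoc]
      rfl
    · ext U e
      rfl
  refine eq_top_iff.mpr fun b _ => ?_
  rw [← loc_eq_adj A j hU]
  have e : ((ψ ≫ incl A j).hom.app (op U)).hom b = b := by rw [hid]; rfl
  rw [← e]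
  exact ((ψ.hom.app (op U)).hom b).2

variable {𝒮 : RelProj.QCGrAlg S} {j : E ⟶ 𝒮.toModule}
  (hj : RelProj.IsGrSymAlg E 𝒮 j) (hE : Coh.IsQCoh E)

include hj hE

theorem adj_eq_top' {U : S.Opens} (hU : IsAffineOpen U) : adj 𝒮.toQCAlg j U = ⊤ :=
  haveI : E.IsQuasicoherent := hE
  adj_eq_top hj.1 hU

/-- The elements whose components of degree `≤ 1` come from the functions and the module. -/
theorem low_degree {U : S.Opens} (hU : IsAffineOpen U) (b : 𝒮.presheaf.obj (op U)) :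
    (∃ r : Γ(S, U), (decompose (𝒮.deg U hU) b 0 : 𝒮.presheaf.obj (op U)) = st 𝒮.toQCAlg U r) ∧
      (∃ e : Γ(E, U), (decompose (𝒮.deg U hU) b 1 : 𝒮.presheaf.obj (op U)) = jm 𝒮.toQCAlg j U e) ∧
      b - (decompose (𝒮.deg U hU) b 0 : 𝒮.presheaf.obj (op U)) ∈
        Ideal.span (Set.range (jm 𝒮.toQCAlg j U)) := by
  classical
  set 𝒜 := 𝒮.deg U hU with h𝒜
  set I : Ideal (𝒮.presheaf.obj (op U)) := Ideal.span (Set.range (jm 𝒮.toQCAlg j U))
  let Q : (𝒮.presheaf.obj (op U)) → Prop := fun b =>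
    (∃ r : Γ(S, U), (decompose 𝒜 b 0 : 𝒮.presheaf.obj (op U)) = st 𝒮.toQCAlg U r) ∧
      (∃ e : Γ(E, U), (decompose 𝒜 b 1 : 𝒮.presheaf.obj (op U)) = jm 𝒮.toQCAlg j U e) ∧
      b - (decompose 𝒜 b 0 : 𝒮.presheaf.obj (op U)) ∈ I
  have jadd : ∀ e e' : Γ(E, U), jm 𝒮.toQCAlg j U (e + e') =
      jm 𝒮.toQCAlg j U e + jm 𝒮.toQCAlg j U e' := fun e e' => map_add (j.app U).hom e e'
  have jsmul : ∀ (r : Γ(S, U)) (e : Γ(E, U)), jm 𝒮.toQCAlg j U (r • e) =
      st 𝒮.toQCAlg U r * jm 𝒮.toQCAlg j U e := fun r e => Scheme.Modules.Hom.app_smul j r e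
  have jzero : jm 𝒮.toQCAlg j U 0 = 0 := map_zero (j.app U).hom
  have jneg : ∀ e : Γ(E, U), jm 𝒮.toQCAlg j U (-e) = -jm 𝒮.toQCAlg j U e :=
    fun e => map_neg (j.app U).hom e
  have hst : ∀ r, Q (st 𝒮.toQCAlg U r) := fun r => by
    have hr : st 𝒮.toQCAlg U r ∈ 𝒜 0 := 𝒮.str_mem U hU r
    refine ⟨⟨r, decompose_of_mem_same _ hr⟩, ⟨0, ?_⟩, ?_⟩
    · rw [decompose_of_mem_ne _ hr zero_ne_one, jzero]
    · rw [decompose_of_mem_same _ hr, sub_self]
      exact I.zero_mem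
  have hjm : ∀ e, Q (jm 𝒮.toQCAlg j U e) := fun e => by
    have he : jm 𝒮.toQCAlg j U e ∈ 𝒜 1 := hj.2 U hU e
    refine ⟨⟨0, ?_⟩, ⟨e, decompose_of_mem_same _ he⟩, ?_⟩
    · rw [decompose_of_mem_ne _ he one_ne_zero, map_zero]
    · rw [decompose_of_mem_ne _ he one_ne_zero, sub_zero]
      exact Ideal.subset_span ⟨e, rfl⟩
  have hadd : ∀ a a', Q a → Q a' → Q (a + a') := by
    rintro a a' ⟨⟨r, hr⟩, ⟨e, he⟩, hI⟩ ⟨⟨r', hr'⟩, ⟨e', he'⟩, hI'⟩
    simp only [Q, decompose_add, DirectSum.add_apply, AddMemClass.coe_add]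
    refine ⟨⟨r + r', by rw [hr, hr', map_add]⟩, ⟨e + e', by rw [he, he', jadd]⟩, ?_⟩
    rw [add_sub_add_comm]
    exact I.add_mem hI hI'
  have hneg : ∀ a, Q a → Q (-a) := by
    rintro a ⟨⟨r, hr⟩, ⟨e, he⟩, hI⟩
    have hp : ∀ i, (decompose 𝒜 (-a) i : 𝒮.presheaf.obj (op U)) =
        -(decompose 𝒜 a i : 𝒮.presheaf.obj (op U)) := fun i => map_neg (GradedRing.proj 𝒜 i) a
    refine ⟨⟨-r, by rw [hp, hr, map_neg]⟩, ⟨-e, by rw [hp, he, jneg]⟩, ?_⟩
    rw [hp, neg_sub_neg, ← neg_sub]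
    exact I.neg_mem hI
  have hmul : ∀ a a', Q a → Q a' → Q (a * a') := by
    rintro a a' ⟨⟨r, hr⟩, ⟨e, he⟩, hI⟩ ⟨⟨r', hr'⟩, ⟨e', he'⟩, hI'⟩
    have h0 : (decompose 𝒜 (a * a') 0 : 𝒮.presheaf.obj (op U)) =
        (decompose 𝒜 a 0 : 𝒮.presheaf.obj (op U)) * (decompose 𝒜 a' 0 : 𝒮.presheaf.obj (op U)) := by
      simpa only [GradedRing.projZeroRingHom_apply] using map_mul (GradedRing.projZeroRingHom 𝒜) a a'
    have h1 : (decompose 𝒜 (a * a') 1 : 𝒮.presheaf.obj (op U)) =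
        (decompose 𝒜 a 0 : 𝒮.presheaf.obj (op U)) * (decompose 𝒜 a' 1 : 𝒮.presheaf.obj (op U)) +
        (decompose 𝒜 a 1 : 𝒮.presheaf.obj (op U)) * (decompose 𝒜 a' 0 : 𝒮.presheaf.obj (op U)) := by
      rw [decompose_mul, coe_mul_apply_eq_sum_antidiagonal]
      simp [Finset.Nat.antidiagonal_succ]
    refine ⟨⟨r * r', by rw [h0, hr, hr', map_mul]⟩, ⟨r • e' + r' • e, ?_⟩, ?_⟩
    · rw [h1, hr, hr', he, he', jadd, jsmul, jsmul,
        mul_comm (jm 𝒮.toQCAlg j U e) (st 𝒮.toQCAlg U r')]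
    · rw [h0, show ∀ c c', a * a' - c * c' = (a - c) * a' + c * (a' - c') from fun c c' => by ring]
      exact I.add_mem (I.mul_mem_right _ hI) (I.mul_mem_left _ hI')
  have hall : ∀ b ∈ adj 𝒮.toQCAlg j U, Q b := fun b hb => by
    induction hb using Subring.closure_induction with
    | mem x hx => exact hx.elim (fun ⟨r, hr⟩ => hr ▸ hst r) fun ⟨e, he⟩ => he ▸ hjm e
    | zero => rw [← map_zero (st 𝒮.toQCAlg U)]; exact hst 0
    | one => rw [← map_one (st 𝒮.toQCAlg U)]; exact hst 1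
    | add x y _ _ hx hy => exact hadd x y hx hy
    | neg x _ hx => exact hneg x hx
    | mul x y _ _ hx hy => exact hmul x y hx hy
  exact hall b ((adj_eq_top' hj hE hU).symm ▸ trivial)
theorem deg_zero {U : S.Opens} (hU : IsAffineOpen U) {b : 𝒮.presheaf.obj (op U)}
    (hb : b ∈ 𝒮.deg U hU 0) : ∃ r : Γ(S, U), b = st 𝒮.toQCAlg U r := by
  obtain ⟨⟨r, hr⟩, -⟩ := low_degree hj hE hU b
  exact ⟨r, (decompose_of_mem_same _ hb).symm.trans hr⟩

theorem deg_one {U : S.Opens} (hU : IsAffineOpen U) {b : 𝒮.presheaf.obj (op U)}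
    (hb : b ∈ 𝒮.deg U hU 1) : ∃ e : Γ(E, U), b = jm 𝒮.toQCAlg j U e := by
  obtain ⟨-, ⟨e, he⟩, -⟩ := low_degree hj hE hU b
  exact ⟨e, (decompose_of_mem_same _ hb).symm.trans he⟩

/-- The irrelevant ideal is generated by the module. -/
theorem irrelevant_le_span {U : S.Opens} (hU : IsAffineOpen U) :
    (𝒮.deg U hU)₊.toIdeal ≤ Ideal.span (Set.range (jm 𝒮.toQCAlg j U)) := by
  intro b hb
  obtain ⟨-, -, h⟩ := low_degree hj hE hU b
  have h0 : (decompose (𝒮.deg U hU) b 0 : 𝒮.presheaf.obj (op U)) = 0 := by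
    have := (HomogeneousIdeal.mem_irrelevant_iff _ b).mp hb
    rwa [GradedRing.proj_apply] at this
  rwa [h0, sub_zero] at h

theorem isGenDegOne : 𝒮.IsGenDegOne := by
  intro U hU
  refine eq_top_iff.mpr ?_
  rw [← adj_eq_top' hj hE hU]
  refine Subring.closure_mono (Set.union_subset_union ?_ ?_)
  · rintro _ ⟨r, rfl⟩
    exact 𝒮.str_mem U hU r
  · rintro _ ⟨e, rfl⟩
    exact hj.2 U hU e

/-- The standard opens `D₊(j e)` cover the chart. -/
theorem exists_not_mem {U : S.Opens} (hU : IsAffineOpen U)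
    (y : ProjectiveSpectrum (𝒮.deg U hU)) :
    ∃ e : Γ(E, U), jm 𝒮.toQCAlg j U e ∉ y.asHomogeneousIdeal := by
  by_contra h
  push Not at h
  refine y.not_irrelevant_le ?_
  intro b hb
  have hle : Ideal.span (Set.range (jm 𝒮.toQCAlg j U)) ≤ y.asHomogeneousIdeal.toIdeal :=
    Ideal.span_le.mpr (by rintro _ ⟨e, rfl⟩; exact h e)
  exact hle (irrelevant_le_span hj hE hU hb)

end

end Groth.Agent.Lib.SymAlg.Gen
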