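import Groth.Agent.Lib.SymAlg.Algebra
import Groth.Agent.Lib.SymAlg.Gen
import Groth.Agent.Lib.AlgGlue.Basic
import Groth.Agent.Lib.QCoh.Localizing

/-!
# The symmetric algebra of a quasi-coherent module exists
-/

set_option autoImplicit false
universe u

open CategoryTheory Limits AlgebraicGeometry Opposite TopologicalSpace
open Groth.Agent.Lib

namespace Groth.Agent.Lib.SymAlg.Exists

noncomputable section

variable {S : Scheme.{u}} (E : S.Modules)

/-- Symmetric algebras of sections. -/
abbrev Sy (U : S.Opens) : Type u := SymmetricAlgebra Γ(S, U) Γ(E, U)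

/-- Restriction of sections as a semilinear map. -/
def gRes {U V : S.Opens} (h : V ≤ U) :
    Γ(E, U) →ₛₗ[(S.presheaf.map (homOfLE h).op).hom] Γ(E, V) where
  toFun := QCoh.Localizing.res E h
  map_add' := map_add _
  map_smul' := QCoh.Localizing.res_smul h

/-- Restriction on symmetric algebras. -/
def resSy {U V : S.Opens} (h : V ≤ U) : Sy E U →+* Sy E V :=
  Algebra.symMap _ (gRes E h)

theorem resSy_algebraMap {U V : S.Opens} (h : V ≤ U) (r : Γ(S, U)) :
    resSy E h (algebraMap _ _ r) = algebraMap Γ(S, V) _ (QCoh.Localizing.resR h r) :=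
  Algebra.symMap_algebraMap _ _ r

theorem resSy_ι {U V : S.Opens} (h : V ≤ U) (e : Γ(E, U)) :
    resSy E h (SymmetricAlgebra.ι _ _ e) = SymmetricAlgebra.ι _ _ (QCoh.Localizing.res E h e) :=
  Algebra.symMap_ι _ _ e

/-- The presheaf of symmetric algebras. -/
def pre : S.Opensᵒᵖ ⥤ CommRingCat.{u} where
  obj U := CommRingCat.of (Sy E U.unop)
  map {U V} i := CommRingCat.ofHom (resSy E (leOfHom i.unop))
  map_id U := CommRingCat.hom_ext (Algebra.hom_ext
    (fun r => by
      change resSy E _ (algebraMap _ _ r) = algebraMap _ _ r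
      rw [resSy_algebraMap, QCoh.Localizing.resR_self])
    fun m => by
      change resSy E _ (SymmetricAlgebra.ι _ _ m) = SymmetricAlgebra.ι _ _ m
      rw [resSy_ι, QCoh.Localizing.res_self])
  map_comp {U V W} i i' := CommRingCat.hom_ext (Algebra.hom_ext
    (fun r => by
      change resSy E _ (algebraMap _ _ r) = resSy E _ (resSy E _ (algebraMap _ _ r))
      rw [resSy_algebraMap, resSy_algebraMap, resSy_algebraMap, QCoh.Localizing.resR_resR])
    fun m => by
      change resSy E _ (SymmetricAlgebra.ι _ _ m) = resSy E _ (resSy E _ (SymmetricAlgebra.ι _ _ m))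
      rw [resSy_ι, resSy_ι, resSy_ι, QCoh.Localizing.res_res])

/-- The structure map. -/
def α : S.presheaf ⟶ pre E where
  app U := CommRingCat.ofHom (algebraMap Γ(S, U.unop) (Sy E U.unop))
  naturality U V i := CommRingCat.hom_ext (RingHom.ext fun r =>
    (resSy_algebraMap E (leOfHom i.unop) r).symm)

variable [E.IsQuasicoherent]

theorem isQC : AlgGlue.Basic.IsQC (α E) := fun U hU f => by
  have h := QCoh.Localizing.localizes_of_isAffineOpen E hU f
  refine Algebra.isLocalization_away (g := gRes E (S.basicOpen_le f)) f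
    (hU.isLocalization_basicOpen f) (fun s => ?_) (fun t ht => h.sep t ht)
  exact h.ext' s

/-- The symmetric algebra, as a quasi-coherent algebra. -/
def alg : RelSpec.QCAlg S :=
  RelSpec.QCAlg.directImage (AlgGlue.Basic.proj (isQC E))

/-- From the symmetric algebras of sections. -/
def toAlg (U : S.Opens) : Sy E U →+* (alg E).presheaf.obj (op U) :=
  AlgGlue.Basic.theta (isQC E) U

theorem toAlg_algebraMap (U : S.Opens) (r : Γ(S, U)) :
    toAlg E U (algebraMap _ _ r) = ((alg E).str.app (op U)).hom r :=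
  AlgGlue.Basic.theta_app (isQC E) U r

theorem toAlg_res {U V : S.Opens} (h : V ≤ U) (x : Sy E U) :
    ((alg E).presheaf.map (homOfLE h).op).hom (toAlg E U x) = toAlg E V (resSy E h x) :=
  AlgGlue.Basic.theta_res (isQC E) h x

theorem toAlg_bijective {U : S.Opens} (hU : IsAffineOpen U) : Function.Bijective (toAlg E U) :=
  AlgGlue.Basic.theta_bijective (isQC E) hU

theorem toAlg_ι_smul (U : S.Opens) (r : Γ(S, U)) (e : Γ(E, U)) :
    toAlg E U (SymmetricAlgebra.ι Γ(S, U) _ (r • e)) =
      ((alg E).str.app (op U)).hom r * toAlg E U (SymmetricAlgebra.ι Γ(S, U) _ e) := by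
  rw [LinearMap.map_smul, Algebra.smul_def, map_mul, toAlg_algebraMap]

/-- The canonical map of `E`. -/
def jmap : E ⟶ (alg E).toModule :=
  ⟨letI := (alg E).moduleSect
   PresheafOfModules.homMk
    { app := fun V => AddCommGrpCat.ofHom
        ((toAlg E V.unop).toAddMonoidHom.comp (SymmetricAlgebra.ι Γ(S, V.unop) Γ(E, V.unop)).toAddMonoidHom)
      naturality := fun V W g => by
        ext e
        exact ((toAlg_res E (leOfHom g.unop) _).trans (congrArg _ (resSy_ι E _ e))).symm }
    fun V r e => toAlg_ι_smul E V.unop r e⟩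

theorem jmap_app (U : S.Opens) (e : Γ(E, U)) :
    (jmap E).app U e = toAlg E U (SymmetricAlgebra.ι Γ(S, U) _ e) := rfl

/-- Two maps out of the symmetric algebra agreeing on affine opens are equal. -/
theorem alg_hom_ext {B : RelSpec.QCAlg S} {ψ ψ' : alg E ⟶ B}
    (h : ∀ (U : S.Opens), IsAffineOpen U → ψ.hom.app (op U) = ψ'.hom.app (op U)) : ψ = ψ' := by
  apply RelSpec.QCAlg.hom_ext
  apply (Functor.IsCoverDense.restrictHomEquivHom (G := Scheme.AffineZariskiSite.toOpensFunctor S)
    (K := Opens.grothendieckTopology S) (ℱ := (alg E).presheaf)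
    (ℱ' := (⟨B.presheaf, B.isSheaf⟩ : TopCat.Sheaf CommRingCat.{u} S.carrier))).symm.injective
  ext U : 2
  exact h U.unop.1 U.unop.2

section lift

variable {B : RelSpec.QCAlg S} (φ : E ⟶ B.toModule)

/-- The extension on symmetric algebras of sections. -/
def liftFun (U : S.Opens) : Sy E U →+* B.presheaf.obj (op U) :=
  letI : _root_.Algebra Γ(S, U) (B.presheaf.obj (op U)) := (B.str.app (op U)).hom.toAlgebra
  (SymmetricAlgebra.lift
    ({ toFun := fun e => φ.app U e
       map_add' := fun a b => map_add (φ.app U).hom a b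
       map_smul' := fun r e => Scheme.Modules.Hom.app_smul φ r e } :
      Γ(E, U) →ₗ[Γ(S, U)] B.presheaf.obj (op U))).toRingHom

omit [E.IsQuasicoherent] in
theorem liftFun_algebraMap (U : S.Opens) (r : Γ(S, U)) :
    liftFun E φ U (algebraMap _ _ r) = (B.str.app (op U)).hom r := by
  letI : _root_.Algebra Γ(S, U) (B.presheaf.obj (op U)) := (B.str.app (op U)).hom.toAlgebra
  exact AlgHom.commutes _ r

omit [E.IsQuasicoherent] in
theorem liftFun_ι (U : S.Opens) (e : Γ(E, U)) :
    liftFun E φ U (SymmetricAlgebra.ι _ _ e) = φ.app U e := by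
  letI : _root_.Algebra Γ(S, U) (B.presheaf.obj (op U)) := (B.str.app (op U)).hom.toAlgebra
  exact SymmetricAlgebra.lift_ι_apply _ e

omit [E.IsQuasicoherent] in
theorem liftFun_res {U V : S.Opens} (h : V ≤ U) (x : Sy E U) :
    liftFun E φ V (resSy E h x) = (B.presheaf.map (homOfLE h).op).hom (liftFun E φ U x) := by
  induction x using SymmetricAlgebra.induction with
  | algebraMap r =>
    rw [resSy_algebraMap, liftFun_algebraMap, liftFun_algebraMap]
    exact congr($(B.str.naturality (homOfLE h).op) r)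
  | ι e =>
    rw [resSy_ι, liftFun_ι, liftFun_ι]
    exact (QCoh.Localizing.res_app φ h e).symm
  | mul a b ha hb => simp only [map_mul, ha, hb]
  | add a b ha hb => simp only [map_add, ha, hb]

/-- The extension over an affine open. -/
def liftAff (U : S.Opens) (hU : IsAffineOpen U) : (alg E).presheaf.obj (op U) →+* B.presheaf.obj (op U) :=
  (liftFun E φ U).comp (RingEquiv.ofBijective (toAlg E U) (toAlg_bijective E hU)).symm.toRingHom

theorem liftAff_toAlg (U : S.Opens) (hU : IsAffineOpen U) (x : Sy E U) :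
    liftAff E φ U hU (toAlg E U x) = liftFun E φ U x :=
  congrArg (liftFun E φ U) ((RingEquiv.ofBijective _ (toAlg_bijective E hU)).symm_apply_apply x)

/-- The extension on the affine site. -/
def liftSite : (Scheme.AffineZariskiSite.toOpensFunctor S).op ⋙ (alg E).presheaf ⟶
    (Scheme.AffineZariskiSite.toOpensFunctor S).op ⋙ B.presheaf where
  app U := CommRingCat.ofHom (liftAff E φ U.unop.1 U.unop.2)
  naturality U V i := by
    refine CommRingCat.hom_ext (RingHom.ext fun a => ?_)
    obtain ⟨x, rfl⟩ := (toAlg_bijective E U.unop.2).2 a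
    change liftAff E φ V.unop.1 V.unop.2 (((alg E).presheaf.map (homOfLE _).op).hom (toAlg E U.unop.1 x)) =
      (B.presheaf.map (homOfLE _).op).hom (liftAff E φ U.unop.1 U.unop.2 (toAlg E U.unop.1 x))
    rw [toAlg_res, liftAff_toAlg, liftAff_toAlg, liftFun_res]

/-- The extension. -/
def liftPre : (alg E).presheaf ⟶ B.presheaf :=
  Functor.IsCoverDense.restrictHomEquivHom (G := Scheme.AffineZariskiSite.toOpensFunctor S)
    (K := Opens.grothendieckTopology S) (ℱ := (alg E).presheaf)
    (ℱ' := (⟨B.presheaf, B.isSheaf⟩ : TopCat.Sheaf CommRingCat.{u} S.carrier)) (liftSite E φ)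

theorem liftPre_app (U : S.Opens) (hU : IsAffineOpen U) :
    (liftPre E φ).app (op U) = CommRingCat.ofHom (liftAff E φ U hU) :=
  NatTrans.congr_app ((Functor.IsCoverDense.restrictHomEquivHom (G := Scheme.AffineZariskiSite.toOpensFunctor S)
    (K := Opens.grothendieckTopology S) (ℱ := (alg E).presheaf)
    (ℱ' := (⟨B.presheaf, B.isSheaf⟩ : TopCat.Sheaf CommRingCat.{u} S.carrier))).symm_apply_apply (liftSite E φ))
    (op ⟨U, hU⟩)

/-- The extension as a map of algebras. -/
def liftHom : alg E ⟶ B where
  hom := liftPre E φ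
  comm := by
    apply (Functor.IsCoverDense.restrictHomEquivHom (G := Scheme.AffineZariskiSite.toOpensFunctor S)
      (K := Opens.grothendieckTopology S) (ℱ := S.presheaf)
      (ℱ' := (⟨B.presheaf, B.isSheaf⟩ : TopCat.Sheaf CommRingCat.{u} S.carrier))).symm.injective
    ext U : 2
    refine CommRingCat.hom_ext (RingHom.ext fun r => ?_)
    change ((liftPre E φ).app (op U.unop.1)).hom (((alg E).str.app (op U.unop.1)).hom r) = _
    rw [liftPre_app E φ U.unop.1 U.unop.2, ← toAlg_algebraMap]
    exact (liftAff_toAlg E φ U.unop.1 U.unop.2 (algebraMap Γ(S, U.unop.1) _ r)).trans (liftFun_algebraMap E φ U.unop.1 r)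

theorem jmap_liftHom : jmap E ≫ RelSpec.QCAlg.Hom.toModuleMap (liftHom E φ) = φ := by
  apply Scheme.Modules.hom_ext
  intro V
  ext (e : Γ(E, V))
  refine (show TopCat.Sheaf CommRingCat.{u} S.carrier from ⟨B.presheaf, B.isSheaf⟩).eq_of_locally_eq'
    (fun W : {W : S.affineOpens // W.1 ≤ V} => W.1.1) V (fun W => homOfLE W.2) ?_ _ _ fun W => ?_
  · intro x hx
    obtain ⟨W, hW, hxW, hWV⟩ := exists_isAffineOpen_mem_and_subset (U := V) hx
    exact Opens.mem_iSup.mpr ⟨⟨⟨W, hW⟩, hWV⟩, hxW⟩
  · obtain ⟨⟨W, hW⟩, hWV⟩ := W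
    change (B.presheaf.map (homOfLE hWV).op).hom (((liftPre E φ).app (op V)).hom ((jmap E).app V e)) =
      (B.presheaf.map (homOfLE hWV).op).hom (φ.app V e)
    have h1 := congr($((liftPre E φ).naturality (homOfLE hWV).op) ((jmap E).app V e))
    refine h1.symm.trans ?_
    change ((liftPre E φ).app (op W)).hom (((alg E).presheaf.map (homOfLE hWV).op).hom ((jmap E).app V e)) = _
    rw [jmap_app, toAlg_res, resSy_ι, liftPre_app E φ W hW]
    refine (liftAff_toAlg E φ W hW _).trans ((liftFun_ι E φ W _).trans ?_)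
    exact (QCoh.Localizing.res_app φ hWV e).symm

end lift

/-- The universal property. -/
theorem isSymAlg : RelSpec.IsSymAlg E (alg E) (jmap E) := fun B φ => by
  refine ⟨liftHom E φ, jmap_liftHom E φ, fun ψ hψ => alg_hom_ext E fun U hU => ?_⟩
  refine CommRingCat.hom_ext (RingHom.ext fun a => ?_)
  obtain ⟨x, rfl⟩ := (toAlg_bijective E hU).2 a
  change (ψ.hom.app (op U)).hom (toAlg E U x) = ((liftPre E φ).app (op U)).hom (toAlg E U x)
  rw [liftPre_app E φ U hU]
  refine Eq.trans ?_ (liftAff_toAlg E φ U hU x).symm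
  refine DFunLike.congr_fun (Algebra.hom_ext (F := (ψ.hom.app (op U)).hom.comp (toAlg E U)) (fun r => ?_) fun e => ?_) x
  · rw [RingHom.comp_apply, toAlg_algebraMap, liftFun_algebraMap]
    exact congr(($(ψ.comm)).app (op U) r)
  · rw [RingHom.comp_apply, liftFun_ι, ← jmap_app]
    exact congrArg (fun t => t.app U e) hψ

/-- The structure of the algebra over an affine open, as an algebra over the functions. -/
@[reducible] def algInst (U : S.Opens) : _root_.Algebra Γ(S, U) ((alg E).presheaf.obj (op U)) :=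
  ((alg E).str.app (op U)).hom.toAlgebra

/-- The map `E(U) → Sym(E)(U)`. -/
def jLin (U : S.Opens) : letI := algInst E U; Γ(E, U) →ₗ[Γ(S, U)] (alg E).presheaf.obj (op U) :=
  letI := algInst E U
  { toFun := fun e => (jmap E).app U e
    map_add' := fun a b => map_add ((jmap E).app U).hom a b
    map_smul' := fun r e => Scheme.Modules.Hom.app_smul (jmap E) r e }

theorem isSymmetricAlgebra_jLin {U : S.Opens} (hU : IsAffineOpen U) :
    letI := algInst E U; IsSymmetricAlgebra (jLin E U) := by
  letI := algInst E U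
  refine IsSymmetricAlgebra.of_equiv
    (AlgEquiv.ofRingEquiv (f := RingEquiv.ofBijective (toAlg E U) (toAlg_bijective E hU))
      fun r => toAlg_algebraMap E U r) (LinearMap.ext fun e => rfl)

/-- The degree-`d` part. -/
def deg (U : S.Opens) (d : ℕ) : AddSubgroup ((alg E).presheaf.obj (op U)) :=
  letI := algInst E U
  (LinearMap.range (jLin E U) ^ d).toAddSubgroup

/-- The graded symmetric algebra. -/
def grAlg : RelProj.QCGrAlg S where
  toQCAlg := alg E
  deg U _ := deg E U
  graded U hU :=
    letI := algInst E U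
    Algebra.gradedRing (isSymmetricAlgebra_jLin E hU)
  map_mem {U V} hU hV i d x hx := by
    letI := algInst E U
    letI := algInst E V
    change x ∈ LinearMap.range (jLin E U) ^ d at hx
    change _ ∈ LinearMap.range (jLin E V) ^ d
    induction hx using Submodule.pow_induction_on_left' with
    | algebraMap r =>
      rw [pow_zero, Submodule.one_eq_range]
      exact ⟨QCoh.Localizing.resR i r, congr($((alg E).str.naturality (homOfLE i).op) r)⟩
    | add x y d hx hy ihx ihy => rw [map_add]; exact add_mem ihx ihy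
    | mem_mul m hm d x hx ih =>
      obtain ⟨e, rfl⟩ := hm
      rw [map_mul, pow_succ']
      exact Submodule.mul_mem_mul ⟨QCoh.Localizing.res E i e,
        (QCoh.Localizing.res_app (jmap E) i e).symm⟩ ih
  str_mem U hU r := by
    letI := algInst E U
    change _ ∈ LinearMap.range (jLin E U) ^ 0
    rw [pow_zero, Submodule.one_eq_range]
    exact ⟨r, rfl⟩

theorem isGrSymAlg : RelProj.IsGrSymAlg E (grAlg E) (jmap E) :=
  ⟨isSymAlg E, fun U hU e => by
    letI := algInst E U
    change _ ∈ LinearMap.range (jLin E U) ^ 1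
    rw [pow_one]
    exact ⟨e, rfl⟩⟩

end

end Groth.Agent.Lib.SymAlg.Exists
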