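import Groth.Prelude.Def_RelSpec

/-!
# Quasi-coherent algebras from their values on affine opens
-/

set_option autoImplicit false
set_option backward.isDefEq.respectTransparency false
universe u

open CategoryTheory CategoryTheory.Limits AlgebraicGeometry TopologicalSpace Opposite

noncomputable section

namespace Groth.Agent.Lib.SymAlg.Glue

variable {S : Scheme.{u}} {F : S.AffineZariskiSiteᵒᵖ ⥤ CommRingCat.{u}}
  {α : (Scheme.AffineZariskiSite.toOpensFunctor S).op ⋙ S.presheaf ⟶ F} (H : α.Coequifibered)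

/-- An object of the affine Zariski site is affine. -/
theorem aff (U : S.AffineZariskiSite) : IsAffineOpen U.toOpens := U.2

/-- The gluing data. -/
def data : (Scheme.AffineZariskiSite.directedCover S).RelativeGluingData :=
  Scheme.AffineZariskiSite.relativeGluingData H

instance : ((data H).functor ⋙ Scheme.forget).IsLocallyDirected :=
  Scheme.Cover.RelativeGluingData.instIsLocallyDirectedI₀CompFunctorForgetOfIsThin ..

/-- The glued scheme. -/
def tot : Scheme.{u} := (data H).glued

/-- Its structure morphism. -/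
def proj : tot H ⟶ S := (data H).toBase

/-- The chart over an affine open. -/
def chart (U : S.AffineZariskiSite) : Spec (F.obj (op U)) ⟶ tot H := (data H).cover.f U

instance (U : S.AffineZariskiSite) : IsOpenImmersion (chart H U) := (data H).cover.map_prop _

theorem chart_proj (U : S.AffineZariskiSite) :
    chart H U ≫ proj H = Spec.map (α.app (op U)) ≫ (aff U).fromSpec :=
  colimit.ι_desc _ _

theorem proj_preimage (U : S.AffineZariskiSite) : proj H ⁻¹ᵁ U.toOpens = (chart H U).opensRange := by
  simpa using! (data H).toBase_preimage_eq_opensRange_ι U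

theorem chart_res {U V : S.AffineZariskiSite} (i : V ⟶ U) :
    Spec.map (F.map i.op) ≫ chart H U = chart H V :=
  colimit.w (data H).functor i

instance isAffineHom_proj : IsAffineHom (proj H) where
  isAffine_preimage U hU := by
    rw [proj_preimage H ⟨U, hU⟩]
    exact isAffineOpen_opensRange (chart H ⟨U, hU⟩)

theorem top_le (U : S.AffineZariskiSite) :
    (⊤ : (Spec (F.obj (op U))).Opens) ≤ chart H U ⁻¹ᵁ (proj H ⁻¹ᵁ U.toOpens) := by
  rw [← Scheme.Hom.comp_preimage, chart_proj, Scheme.Hom.comp_preimage, (aff U).fromSpec_preimage_self]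
  exact le_top

/-- The quasi-coherent algebra. -/
def alg : RelSpec.QCAlg S := RelSpec.QCAlg.directImage (proj H)

/-- Its sections over an affine open are the given ring. -/
def ev (U : S.AffineZariskiSite) : (alg H).presheaf.obj (op U.toOpens) ⟶ F.obj (op U) :=
  (chart H U).appLE (proj H ⁻¹ᵁ U.toOpens) ⊤ (top_le H U) ≫ (Scheme.ΓSpecIso (F.obj (op U))).hom

theorem ev_naturality {U V : S.AffineZariskiSite} (i : V ⟶ U) :
    (alg H).presheaf.map ((Scheme.AffineZariskiSite.toOpensFunctor S).map i).op ≫ ev H V =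
      ev H U ≫ F.map i.op := by
  have e1 : (tot H).presheaf.map (homOfLE ((proj H).preimage_mono
      (((Scheme.AffineZariskiSite.toOpensFunctor S).map i).le))).op ≫
        (chart H V).appLE (proj H ⁻¹ᵁ V.toOpens) ⊤ (top_le H V) =
      (chart H U).appLE (proj H ⁻¹ᵁ U.toOpens) ⊤ (top_le H U) ≫ (Spec.map (F.map i.op)).appTop := by
    refine ((chart H V).map_appLE (top_le H V) _).trans ?_
    have h3 : (Spec.map (F.map i.op)).appTop = (Spec.map (F.map i.op)).appLE ⊤ ⊤ le_rfl :=
      (Scheme.Hom.appLE_eq_app _).symm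
    rw [h3, Scheme.Hom.appLE_comp_appLE]
    congr 1
    exact (chart_res H i).symm
  show (tot H).presheaf.map _ ≫ _ ≫ _ = (_ ≫ _) ≫ _
  refine (Category.assoc _ _ _).symm.trans ((congrArg (· ≫ (Scheme.ΓSpecIso (F.obj (op V))).hom) e1).trans ?_)
  rw [Category.assoc, Category.assoc, ← Scheme.ΓSpecIso_naturality]

theorem str_ev (U : S.AffineZariskiSite) : (alg H).str.app (op U.toOpens) ≫ ev H U = α.app (op U) := by
  show (proj H).app U.toOpens ≫ (chart H U).appLE (proj H ⁻¹ᵁ U.toOpens) ⊤ (top_le H U) ≫ _ = _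
  rw [← Scheme.Hom.appLE_eq_app, ← Category.assoc, Scheme.Hom.appLE_comp_appLE]
  have h1 : (chart H U ≫ proj H).appLE U.toOpens ⊤ (top_le H U) =
      (Spec.map (α.app (op U)) ≫ (aff U).fromSpec).appLE U.toOpens ⊤
        (by rw [← chart_proj H]; exact top_le H U) := by
    congr 1
    exact chart_proj H U
  rw [h1, ← Scheme.Hom.appLE_comp_appLE (Spec.map (α.app (op U))) (aff U).fromSpec U.toOpens ⊤ ⊤
    (aff U).fromSpec_preimage_self.ge le_rfl]
  have h2 : (aff U).fromSpec.appLE U.toOpens ⊤ (aff U).fromSpec_preimage_self.ge = (Scheme.ΓSpecIso Γ(S, U.toOpens)).inv := by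
    rw [Scheme.Hom.appLE, (aff U).fromSpec_app_self]
    simp [← Functor.map_comp]
  have h3 : (Spec.map (α.app (op U))).appLE ⊤ ⊤ le_rfl = (Spec.map (α.app (op U))).appTop :=
    Scheme.Hom.appLE_eq_app _
  rw [h2, h3]
  show ((Scheme.ΓSpecIso _).inv ≫ (Spec.map _).appTop) ≫ _ = _
  rw [Category.assoc, Scheme.ΓSpecIso_naturality, Iso.inv_hom_id_assoc]

instance isIso_ev (U : S.AffineZariskiSite) : IsIso (ev H U) := by
  have h : IsIso ((chart H U).appLE (proj H ⁻¹ᵁ U.toOpens) ⊤ (top_le H U)) := by
    have he : proj H ⁻¹ᵁ U.toOpens = chart H U ''ᵁ ⊤ := by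
      rw [Scheme.Hom.image_top_eq_opensRange]; exact proj_preimage H U
    have h2 : IsIso ((chart H U).appLE (chart H U ''ᵁ ⊤) ⊤ ((chart H U).preimage_image_eq ⊤).ge) := by
      rw [Scheme.Hom.appLE]
      haveI : IsIso ((chart H U).app (chart H U ''ᵁ ⊤)) := (chart H U).isIso_app _ ((chart H U).image_le_opensRange ⊤)
      haveI : IsIso (homOfLE ((chart H U).preimage_image_eq ⊤).ge) :=
        ⟨homOfLE ((chart H U).preimage_image_eq ⊤).le, Subsingleton.elim _ _, Subsingleton.elim _ _⟩
      infer_instance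
    revert h2
    generalize top_le H U = e
    revert e
    rw [he]
    exact fun e h2 => h2
  unfold ev
  infer_instance

end Groth.Agent.Lib.SymAlg.Glue
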