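import Groth.Agent.Lib.SymAlg.Loc
import Groth.Agent.Lib.SymAlg.Glue
import Groth.Agent.Lib.QCoh.Localizing

/-!
# The symmetric algebra of a quasi-coherent module
-/

set_option autoImplicit false
set_option backward.isDefEq.respectTransparency false
universe u

open CategoryTheory CategoryTheory.Limits AlgebraicGeometry TopologicalSpace Opposite

noncomputable section

namespace Groth.Agent.Lib.SymAlg.Main

open QCoh.Localizing

variable {S : Scheme.{u}} (E : S.Modules)

/-- Symmetric algebras over the affine opens. -/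
def symF : S.AffineZariskiSiteᵒᵖ ⥤ CommRingCat.{u} where
  obj U := CommRingCat.of (SymmetricAlgebra Γ(S, U.unop.toOpens) Γ(E, U.unop.toOpens))
  map {U V} i := CommRingCat.ofHom (Loc.map (resR (Scheme.AffineZariskiSite.toOpens_mono i.unop.le))
    (res E (Scheme.AffineZariskiSite.toOpens_mono i.unop.le))
    fun r m => res_smul _ r m)
  map_id U := by
    refine CommRingCat.hom_ext (Loc.ringHom_ext (fun r => ?_) fun m => ?_)
    · simp
    · simp
  map_comp {U V W} i j := by
    refine CommRingCat.hom_ext (Loc.ringHom_ext (fun r => ?_) fun m => ?_)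
    · simp
    · simp

/-- Their structure maps. -/
def symα : (Scheme.AffineZariskiSite.toOpensFunctor S).op ⋙ S.presheaf ⟶ symF E where
  app U := CommRingCat.ofHom (algebraMap Γ(S, U.unop.toOpens) (SymmetricAlgebra Γ(S, U.unop.toOpens) Γ(E, U.unop.toOpens)))
  naturality U V i := by
    refine CommRingCat.hom_ext (RingHom.ext fun (r : Γ(S, U.unop.toOpens)) => ?_)
    exact (Loc.map_algebraMap (resR (Scheme.AffineZariskiSite.toOpens_mono i.unop.le))
      (res E (Scheme.AffineZariskiSite.toOpens_mono i.unop.le)) (fun r m => res_smul _ r m) r).symm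

theorem symα_app (U : S.AffineZariskiSite) (r : Γ(S, U.toOpens)) :
    (symα E).app (op U) r =
      algebraMap Γ(S, U.toOpens) (SymmetricAlgebra Γ(S, U.toOpens) Γ(E, U.toOpens)) r := rfl

theorem symF_map_algebraMap {U V : S.AffineZariskiSite} (i : V ⟶ U) (r : Γ(S, U.toOpens)) :
    (symF E).map i.op (algebraMap Γ(S, U.toOpens) (SymmetricAlgebra Γ(S, U.toOpens) Γ(E, U.toOpens)) r) =
      algebraMap Γ(S, V.toOpens) (SymmetricAlgebra Γ(S, V.toOpens) Γ(E, V.toOpens))
        (resR (Scheme.AffineZariskiSite.toOpens_mono i.le) r) :=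
  Loc.map_algebraMap (resR (Scheme.AffineZariskiSite.toOpens_mono i.le))
    (res E (Scheme.AffineZariskiSite.toOpens_mono i.le)) (fun r m => res_smul _ r m) r

theorem symF_map_ι {U V : S.AffineZariskiSite} (i : V ⟶ U) (m : Γ(E, U.toOpens)) :
    (symF E).map i.op (SymmetricAlgebra.ι Γ(S, U.toOpens) Γ(E, U.toOpens) m) =
      SymmetricAlgebra.ι Γ(S, V.toOpens) Γ(E, V.toOpens) (res E (Scheme.AffineZariskiSite.toOpens_mono i.le) m) :=
  Loc.map_ι (resR (Scheme.AffineZariskiSite.toOpens_mono i.le))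
    (res E (Scheme.AffineZariskiSite.toOpens_mono i.le)) (fun r m => res_smul _ r m) m

theorem coequifibered [E.IsQuasicoherent] : (symα E).Coequifibered := by
  refine Scheme.AffineZariskiSite.coequifibered_iff_forall_isLocalizationAway.mpr fun U r => ?_
  have hU : IsAffineOpen U.toOpens := Glue.aff U
  have hl := localizes_of_isAffineOpen E hU r
  exact Loc.isLocalizationAway (resR (S.basicOpen_le r)) (res E (S.basicOpen_le r))
    (fun a m => res_smul _ a m) r (hU.isLocalization_basicOpen r)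
    (fun y => hl.ext' y) (fun x hx => hl.sep x hx)

variable [E.IsQuasicoherent]

/-- The symmetric algebra. -/
def sym : RelSpec.QCAlg S := Glue.alg (coequifibered E)

/-- Sections over an affine open. -/
abbrev evS (U : S.AffineZariskiSite) :
    (sym E).presheaf.obj (op U.toOpens) ⟶ CommRingCat.of (SymmetricAlgebra Γ(S, U.toOpens) Γ(E, U.toOpens)) :=
  Glue.ev (coequifibered E) U

/-- The inverse of `evS`. -/
def evInv (U : S.AffineZariskiSite) :
    CommRingCat.of (SymmetricAlgebra Γ(S, U.toOpens) Γ(E, U.toOpens)) ⟶ (sym E).presheaf.obj (op U.toOpens) :=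
  inv (evS E U)

theorem evS_evInv (U : S.AffineZariskiSite) : evS E U ≫ evInv E U = 𝟙 _ := IsIso.hom_inv_id _

theorem evInv_evS (U : S.AffineZariskiSite) : evInv E U ≫ evS E U = 𝟙 _ := IsIso.inv_hom_id _

theorem evInv_naturality {U V : S.AffineZariskiSite} (i : V ⟶ U) :
    evInv E U ≫ (sym E).presheaf.map ((Scheme.AffineZariskiSite.toOpensFunctor S).map i).op =
      (symF E).map i.op ≫ evInv E V := by
  have h := Glue.ev_naturality (coequifibered E) i
  rw [evInv, evInv, IsIso.inv_comp_eq, ← Category.assoc, IsIso.eq_comp_inv]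
  exact h

theorem evInv_algebraMap (U : S.AffineZariskiSite) (r : Γ(S, U.toOpens)) :
    evInv E U (algebraMap Γ(S, U.toOpens) (SymmetricAlgebra Γ(S, U.toOpens) Γ(E, U.toOpens)) r) =
      (sym E).str.app (op U.toOpens) r := by
  have h := Glue.str_ev (coequifibered E) U
  rw [← symα_app E U r, ← h]
  change (evS E U ≫ evInv E U) _ = _
  rw [evS_evInv]
  rfl

/-- A map of modules into an algebra, from its values on affine opens. -/
theorem exists_hom (B : RelSpec.QCAlg S) (η : ∀ U : S.AffineZariskiSite, Γ(E, U.toOpens) →+ B.presheaf.obj (op U.toOpens))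
    (hnat : ∀ {U V : S.AffineZariskiSite} (i : V ⟶ U) (m : Γ(E, U.toOpens)),
      η V (res E (Scheme.AffineZariskiSite.toOpens_mono i.le) m) =
        B.presheaf.map ((Scheme.AffineZariskiSite.toOpensFunctor S).map i).op (η U m))
    (hlin : ∀ (U : S.AffineZariskiSite) (r : Γ(S, U.toOpens)) (m : Γ(E, U.toOpens)),
      η U (r • m) = B.str.app (op U.toOpens) r * η U m) :
    ∃ φ : E ⟶ B.toModule, ∀ (U : S.AffineZariskiSite) (m : Γ(E, U.toOpens)), φ.app U.toOpens m = η U m := by
  let σ : (Scheme.AffineZariskiSite.toOpensFunctor S).op ⋙ E.presheaf ⟶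
      (Scheme.AffineZariskiSite.toOpensFunctor S).op ⋙ B.toAb :=
    { app := fun U => AddCommGrpCat.ofHom (η U.unop)
      naturality := fun U V i => by
        ext m
        exact hnat i.unop m }
  let EqM := Functor.IsCoverDense.restrictHomEquivHom (G := Scheme.AffineZariskiSite.toOpensFunctor S)
    (K := Opens.grothendieckTopology S) (ℱ := E.presheaf)
    (ℱ' := (⟨B.toAb, B.isSheaf_toAb⟩ : TopCat.Sheaf AddCommGrpCat.{u} S.carrier))
  let ψ := EqM σ
  have hψ : ∀ (U : S.AffineZariskiSite) (m : Γ(E, U.toOpens)), ψ.app (op U.toOpens) m = η U m := fun U m =>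
    congr($(NatTrans.congr_app (EqM.symm_apply_apply σ) (op U)) m)
  refine ⟨⟨letI := B.moduleSect
    PresheafOfModules.homMk ψ fun W r m => ?_⟩, hψ⟩
  obtain ⟨W⟩ := W
  letI := B.moduleSect
  choose V hV hxV hVW using fun x : W =>
    exists_isAffineOpen_mem_and_subset (X := S) (x := x.1) (U := W) x.2
  refine TopCat.Sheaf.eq_of_locally_eq' (⟨B.toAb, B.isSheaf_toAb⟩ : TopCat.Sheaf AddCommGrpCat.{u} S.carrier)
    V W (fun x => homOfLE (hVW x)) (fun x hx => Opens.mem_iSup.2 ⟨⟨x, hx⟩, hxV ⟨x, hx⟩⟩) _ _ fun x => ?_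
  let Vx : S.AffineZariskiSite := ⟨V x, hV x⟩
  have hn : ∀ (a : Γ(E, W)), B.toAb.map (homOfLE (hVW x)).op (ψ.app (op W) a) = η Vx (res E (hVW x) a) :=
    fun a => by
      rw [← hψ Vx]
      exact (congr($(ψ.naturality (homOfLE (hVW x)).op) a)).symm
  let rW : Γ(S, W) := r
  let mW : Γ(E, W) := m
  show B.toAb.map (homOfLE (hVW x)).op (ψ.app (op W) (rW • mW)) =
    B.toAb.map (homOfLE (hVW x)).op (B.str.app (op W) rW * ψ.app (op W) mW)
  rw [hn, res_smul, hlin]
  refine Eq.symm ((map_mul (B.presheaf.map (homOfLE (hVW x)).op).hom _ _).trans ?_)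
  exact congrArg₂ (· * ·) (congr($(B.str.naturality (homOfLE (hVW x)).op) rW)).symm (hn mW)

theorem module_hom_ext {B : RelSpec.QCAlg S} {φ φ' : E ⟶ B.toModule}
    (h : ∀ (U : S.AffineZariskiSite) (m : Γ(E, U.toOpens)), φ.app U.toOpens m = φ'.app U.toOpens m) : φ = φ' := by
  let EqM := Functor.IsCoverDense.restrictHomEquivHom (G := Scheme.AffineZariskiSite.toOpensFunctor S)
    (K := Opens.grothendieckTopology S) (ℱ := E.presheaf)
    (ℱ' := (⟨B.toAb, B.isSheaf_toAb⟩ : TopCat.Sheaf AddCommGrpCat.{u} S.carrier))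
  have h1 : (φ.mapPresheaf : E.presheaf ⟶ B.toAb) = φ'.mapPresheaf := EqM.symm.injective (by
    ext U m
    exact h U.unop m)
  refine Scheme.Modules.hom_ext _ _ fun W => ?_
  exact NatTrans.congr_app h1 (op W)

theorem exists_j : ∃ j : E ⟶ (sym E).toModule, ∀ (U : S.AffineZariskiSite) (m : Γ(E, U.toOpens)),
    j.app U.toOpens m = evInv E U (SymmetricAlgebra.ι Γ(S, U.toOpens) Γ(E, U.toOpens) m) := by
  refine exists_hom E (sym E) (fun U => AddMonoidHom.comp (evInv E U).hom.toAddMonoidHom
    (SymmetricAlgebra.ι Γ(S, U.toOpens) Γ(E, U.toOpens)).toAddMonoidHom) (fun {U V} i m => ?_) fun U r m => ?_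
  · show evInv E V _ = (sym E).presheaf.map _ (evInv E U _)
    refine Eq.trans ?_ (congr($(evInv_naturality E i) _)).symm
    exact congrArg (evInv E V) (symF_map_ι E i m).symm
  · show evInv E U (SymmetricAlgebra.ι Γ(S, U.toOpens) Γ(E, U.toOpens) (r • m)) = _
    rw [map_smul, Algebra.smul_def, map_mul, evInv_algebraMap]
    rfl

theorem existsUnique_lift (j : E ⟶ (sym E).toModule)
    (hj : ∀ (U : S.AffineZariskiSite) (m : Γ(E, U.toOpens)),
      j.app U.toOpens m = evInv E U (SymmetricAlgebra.ι Γ(S, U.toOpens) Γ(E, U.toOpens) m))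
    (B : RelSpec.QCAlg S) (φ : E ⟶ B.toModule) :
    ∃! ψ : sym E ⟶ B, j ≫ RelSpec.QCAlg.Hom.toModuleMap ψ = φ := by
  let β : ∀ U : S.AffineZariskiSite,
      SymmetricAlgebra Γ(S, U.toOpens) Γ(E, U.toOpens) →+* B.presheaf.obj (op U.toOpens) := fun U =>
    letI := (B.str.app (op U.toOpens)).hom.toAlgebra
    (SymmetricAlgebra.lift
      ({ toFun := fun m => φ.app U.toOpens m
         map_add' := map_add _
         map_smul' := fun r m => by
          exact (φ.app_smul r m).trans rfl } : Γ(E, U.toOpens) →ₗ[Γ(S, U.toOpens)] B.presheaf.obj (op U.toOpens))).toRingHom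
  have hβ₁ : ∀ (U : S.AffineZariskiSite) (r : Γ(S, U.toOpens)),
      β U (algebraMap Γ(S, U.toOpens) _ r) = B.str.app (op U.toOpens) r := fun U r => by
    letI := (B.str.app (op U.toOpens)).hom.toAlgebra
    exact AlgHom.commutes _ r
  have hβ₂ : ∀ (U : S.AffineZariskiSite) (m : Γ(E, U.toOpens)),
      β U (SymmetricAlgebra.ι Γ(S, U.toOpens) Γ(E, U.toOpens) m) = φ.app U.toOpens m := fun U m => by
    letI := (B.str.app (op U.toOpens)).hom.toAlgebra
    exact SymmetricAlgebra.lift_ι_apply _ m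
  let σ : (Scheme.AffineZariskiSite.toOpensFunctor S).op ⋙ (sym E).presheaf ⟶
      (Scheme.AffineZariskiSite.toOpensFunctor S).op ⋙ B.presheaf :=
    { app := fun U => evS E U.unop ≫ CommRingCat.ofHom (β U.unop)
      naturality := fun U V i => by
        have h1 : (symF E).map i ≫ CommRingCat.ofHom (β V.unop) =
            CommRingCat.ofHom (β U.unop) ≫ B.presheaf.map ((Scheme.AffineZariskiSite.toOpensFunctor S).map i.unop).op := by
          refine CommRingCat.hom_ext (Loc.ringHom_ext (fun r => ?_) fun m => ?_)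
          · show β V.unop ((symF E).map i.unop.op _) = B.presheaf.map _ (β U.unop _)
            rw [symF_map_algebraMap, hβ₁, hβ₁]
            exact congr($(B.str.naturality ((Scheme.AffineZariskiSite.toOpensFunctor S).map i.unop).op) r)
          · show β V.unop ((symF E).map i.unop.op _) = B.presheaf.map _ (β U.unop _)
            rw [symF_map_ι, hβ₂, hβ₂]
            exact congr($(φ.mapPresheaf.naturality ((Scheme.AffineZariskiSite.toOpensFunctor S).map i.unop).op) m)
        show (sym E).presheaf.map _ ≫ evS E V.unop ≫ _ = (evS E U.unop ≫ _) ≫ B.presheaf.map _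
        rw [Category.assoc]
        refine (Category.assoc _ _ _).symm.trans ?_
        refine (congrArg (· ≫ CommRingCat.ofHom (β V.unop)) (Glue.ev_naturality (coequifibered E) i.unop)).trans ?_
        exact (Category.assoc _ _ _).trans (congrArg (evS E U.unop ≫ ·) h1) }
  let EqA := Functor.IsCoverDense.restrictHomEquivHom (G := Scheme.AffineZariskiSite.toOpensFunctor S)
    (K := Opens.grothendieckTopology S) (ℱ := (sym E).presheaf)
    (ℱ' := (⟨B.presheaf, B.isSheaf⟩ : TopCat.Sheaf CommRingCat.{u} S.carrier))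
  let ψh := EqA σ
  have hψ : ∀ U : S.AffineZariskiSite, ψh.app (op U.toOpens) = evS E U ≫ CommRingCat.ofHom (β U) := fun U =>
    NatTrans.congr_app (EqA.symm_apply_apply σ) (op U)
  have hcomm : (sym E).str ≫ ψh = B.str := by
    refine (Functor.IsCoverDense.restrictHomEquivHom (G := Scheme.AffineZariskiSite.toOpensFunctor S)
      (K := Opens.grothendieckTopology S) (ℱ := S.presheaf)
      (ℱ' := (⟨B.presheaf, B.isSheaf⟩ : TopCat.Sheaf CommRingCat.{u} S.carrier))).symm.injective ?_
    ext U : 2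
    show (sym E).str.app (op U.unop.toOpens) ≫ ψh.app (op U.unop.toOpens) = B.str.app (op U.unop.toOpens)
    rw [hψ]
    refine (Category.assoc _ _ _).symm.trans ?_
    refine (congrArg (· ≫ CommRingCat.ofHom (β U.unop)) (Glue.str_ev (coequifibered E) U.unop)).trans ?_
    exact CommRingCat.hom_ext (RingHom.ext fun r => hβ₁ U.unop r)
  refine ⟨⟨ψh, hcomm⟩, module_hom_ext E fun U m => ?_, fun ψ' hψ' => ?_⟩
  · show ψh.app (op U.toOpens) (j.app U.toOpens m) = _
    rw [hψ, hj]
    show β U ((evInv E U ≫ evS E U) _) = _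
    rw [evInv_evS]
    exact hβ₂ U m
  · refine RelSpec.QCAlg.hom_ext (EqA.symm.injective ?_)
    ext U : 2
    show ψ'.hom.app (op U.unop.toOpens) = ψh.app (op U.unop.toOpens)
    rw [hψ, ← IsIso.inv_comp_eq]
    refine CommRingCat.hom_ext (Loc.ringHom_ext (fun r => ?_) fun m => ?_)
    · show ψ'.hom.app _ (evInv E U.unop _) = β U.unop _
      rw [evInv_algebraMap, hβ₁]
      exact congr($(NatTrans.congr_app ψ'.comm (op U.unop.toOpens)) r)
    · show ψ'.hom.app _ (evInv E U.unop _) = β U.unop _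
      rw [hβ₂, ← hj, ← hψ']
      rfl

theorem exists_lift (j : E ⟶ (sym E).toModule)
    (hj : ∀ (U : S.AffineZariskiSite) (m : Γ(E, U.toOpens)),
      j.app U.toOpens m = evInv E U (SymmetricAlgebra.ι Γ(S, U.toOpens) Γ(E, U.toOpens) m))
    (B : RelSpec.QCAlg S) (φ : E ⟶ B.toModule) :
    ∃ ψ : sym E ⟶ B, j ≫ RelSpec.QCAlg.Hom.toModuleMap ψ = φ :=
  (existsUnique_lift E j hj B φ).exists

theorem exists_isSymAlg : ∃ (A : RelSpec.QCAlg S) (j : E ⟶ A.toModule), RelSpec.IsSymAlg E A j := by
  obtain ⟨j, hj⟩ := exists_j E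
  exact ⟨sym E, j, existsUnique_lift E j hj⟩

end Groth.Agent.Lib.SymAlg.Main
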