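import Groth.Agent.Lib.SymAlg.Exists
import Mathlib.Algebra.DirectSum.Basic

/-!
# Any symmetric algebra of a quasi-coherent module is the symmetric algebra on affine opens
-/

set_option autoImplicit false
universe u

open CategoryTheory Limits AlgebraicGeometry Opposite TopologicalSpace DirectSum
open Groth.Agent.Lib

namespace Groth.Agent.Lib.SymAlg.Unique

noncomputable section

variable {S : Scheme.{u}} {E : S.Modules}

/-- The algebra structure on sections. -/
@[reducible] def algInst (A : RelSpec.QCAlg S) (U : S.Opens) :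
    _root_.Algebra Γ(S, U) (A.presheaf.obj (op U)) :=
  (A.str.app (op U)).hom.toAlgebra

/-- A module map on sections, linearly. -/
def jLin (A : RelSpec.QCAlg S) (j : E ⟶ A.toModule) (U : S.Opens) :
    letI := algInst A U; Γ(E, U) →ₗ[Γ(S, U)] A.presheaf.obj (op U) :=
  letI := algInst A U
  { toFun := fun e => j.app U e
    map_add' := fun a b => map_add (j.app U).hom a b
    map_smul' := fun r e => Scheme.Modules.Hom.app_smul j r e }

variable [E.IsQuasicoherent] {A : RelSpec.QCAlg S} {j : E ⟶ A.toModule}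

/-- Any symmetric algebra is isomorphic to the constructed one. -/
theorem exists_iso (h : RelSpec.IsSymAlg E A j) :
    ∃ e : Exists.alg E ≅ A, Exists.jmap E ≫ RelSpec.QCAlg.Hom.toModuleMap e.hom = j := by
  obtain ⟨ψ, hψ, -⟩ := Exists.isSymAlg E A j
  obtain ⟨χ, hχ, -⟩ := h (Exists.alg E) (Exists.jmap E)
  refine ⟨⟨ψ, χ, ?_, ?_⟩, hψ⟩
  · refine (Exists.isSymAlg E _ (Exists.jmap E)).unique ?_ ?_
    · refine Eq.trans ?_ hχ
      rw [← hψ, Category.assoc]
      rfl
    · ext U e
      rfl
  · refine (h A j).unique ?_ ?_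
    · refine Eq.trans ?_ hψ
      rw [← hχ, Category.assoc]
      rfl
    · ext U e
      rfl

/-- On affine opens, a symmetric algebra is the symmetric algebra of the sections. -/
theorem isSymmetricAlgebra (h : RelSpec.IsSymAlg E A j) {U : S.Opens} (hU : IsAffineOpen U) :
    letI := algInst A U; IsSymmetricAlgebra (jLin A j U) := by
  obtain ⟨e, he⟩ := exists_iso h
  letI := algInst A U
  letI := Exists.algInst E U
  have hb := Exists.isSymmetricAlgebra_jLin E hU
  have hbij : Function.Bijective (e.hom.hom.app (op U)).hom := by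
    refine ⟨fun a b hab => ?_, fun a => ⟨(e.inv.hom.app (op U)).hom a, ?_⟩⟩
    · have h1 : ∀ a, (e.inv.hom.app (op U)).hom ((e.hom.hom.app (op U)).hom a) = a := fun a =>
        congr(($(e.hom_inv_id)).hom.app (op U) a)
      rw [← h1 a, ← h1 b, hab]
    · exact congr(($(e.inv_hom_id)).hom.app (op U) a)
  refine IsSymmetricAlgebra.of_equiv (hb.equiv.trans
    (AlgEquiv.ofRingEquiv (f := RingEquiv.ofBijective (e.hom.hom.app (op U)).hom hbij)
      fun r => congr(($(e.hom.comm)).app (op U) r))) (LinearMap.ext fun x => ?_)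
  change (e.hom.hom.app (op U)).hom (SymmetricAlgebra.lift (Exists.jLin E U) (SymmetricAlgebra.ι _ _ x)) = _
  rw [SymmetricAlgebra.lift_ι_apply]
  exact congr(($he).app U x)

variable {𝒮 : RelProj.QCGrAlg S} {k : E ⟶ 𝒮.toModule}

/-- The grading of a graded symmetric algebra is by the powers of the module. -/
theorem deg_eq (h : RelProj.IsGrSymAlg E 𝒮 k) {U : S.Opens} (hU : IsAffineOpen U) (d : ℕ)
    (x : 𝒮.presheaf.obj (op U)) :
    letI := algInst 𝒮.toQCAlg U
    x ∈ 𝒮.deg U hU d ↔ x ∈ LinearMap.range (jLin 𝒮.toQCAlg k U) ^ d := by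
  classical
  letI := algInst 𝒮.toQCAlg U
  letI := Algebra.gradedAlgebra (isSymmetricAlgebra h.1 hU)
  set G := fun i : ℕ => LinearMap.range (jLin 𝒮.toQCAlg k U) ^ i with hG
  have hle : ∀ i, ∀ y ∈ G i, y ∈ 𝒮.deg U hU i := fun i y hy => by
    induction hy using Submodule.pow_induction_on_left' with
    | algebraMap r => exact 𝒮.str_mem U hU r
    | add x y i hx hy ihx ihy => exact add_mem ihx ihy
    | mem_mul m hm i x hx ih =>
      obtain ⟨e, rfl⟩ := hm
      rw [Nat.succ_eq_add_one, add_comm i 1]
      exact SetLike.mul_mem_graded (h.2 U hU e) ih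
  refine ⟨fun hx => ?_, hle d x⟩
  have hsum : x = ∑ i ∈ (decompose G x).support, (decompose G x i : 𝒮.presheaf.obj (op U)) :=
    (sum_support_decompose G x).symm
  have hx' : x = (decompose G x d : 𝒮.presheaf.obj (op U)) := by
    conv_lhs => rw [← decompose_of_mem_same (𝒮.deg U hU) hx, hsum]
    rw [decompose_sum, DFinsupp.finsetSum_apply, AddSubmonoidClass.coe_finsetSum]
    rw [Finset.sum_eq_single d (fun i _ hid => decompose_of_mem_ne _ (hle i _ (decompose G x i).2) hid)]
    · exact decompose_of_mem_same _ (hle d _ (decompose G x d).2)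
    · intro hd
      rw [DFinsupp.notMem_support_iff.1 hd]
      simp
  rw [hx']
  exact (decompose G x d).2

end

end Groth.Agent.Lib.SymAlg.Unique
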