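import Groth.Agent.Lib.SymAlg.VA
import Groth.Agent.Lib.TensorMod.HomGlue

/-!
# Frames of `O(1)` on a relative Proj
-/

noncomputable section

set_option autoImplicit false
universe u

open CategoryTheory CategoryTheory.Limits AlgebraicGeometry Opposite TopologicalSpace
open scoped HomogeneousIdeal

namespace Groth.Agent.Lib.SymAlg.Frame

open Groth.Agent.Lib Groth.Agent.H58VA TensorMod TensorMod.Dual TensorMod.Gen TensorMod.LocIso Ample.GenLocus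

variable {S P : Scheme.{u}} {𝒮 : RelProj.QCGrAlg S} {p : P ⟶ S}
  {chart : ∀ (U : S.Opens) (hU : IsAffineOpen U), ((p ⁻¹ᵁ U : P.Opens) : Scheme.{u}) ≅ Proj (𝒮.deg U hU)}
  {O1 : P.Modules}
  {lam : ∀ (U : S.Opens) (hU : IsAffineOpen U),
    O1 ⟶ (Scheme.Modules.pushforward (RelProj.emb p chart U hU)).obj (GrTwist.twist (𝒮.deg U hU) 1)}

theorem image_le {U : S.Opens} (hU : IsAffineOpen U) (W : (Proj (𝒮.deg U hU)).Opens) :
    RelProj.emb p chart U hU ''ᵁ W ≤ p ⁻¹ᵁ U := by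
  rintro x ⟨z, -, rfl⟩
  exact ((chart U hU).inv z).2

theorem exists_point {U : S.Opens} (hU : IsAffineOpen U) {x : P} (hx : p x ∈ U) :
    ∃ y : Proj (𝒮.deg U hU), RelProj.emb p chart U hU y = x := by
  refine ⟨(chart U hU).hom ⟨x, hx⟩, ?_⟩
  rw [← Scheme.Hom.comp_apply, RelProj.emb, Iso.hom_inv_id_assoc]
  rfl

/-- A section reading `g / 1` on a chart generates `O(1)` over the open `D₊(g)`. -/
theorem isGen_of_val (hO : RelProj.IsRelTwist 𝒮 p chart 1 O1 lam) {U : S.Opens} (hU : IsAffineOpen U)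
    (t : Γ(O1, p ⁻¹ᵁ U)) {g : 𝒮.presheaf.obj (op U)} (hg : g ∈ 𝒮.deg U hU 1)
    (hval : ∀ y : ↥(RelProj.emb p chart U hU ⁻¹ᵁ (p ⁻¹ᵁ U)),
      GrTwist.val (V := RelProj.emb p chart U hU ⁻¹ᵁ (p ⁻¹ᵁ U)) ((lam U hU).app (p ⁻¹ᵁ U) t) y =
        GrTwistOne.frac1 y.1 g) :
    IsGen O1 (RelProj.emb p chart U hU ''ᵁ Proj.basicOpen (𝒮.deg U hU) g)
      (rs O1 (image_le hU _) t) := by
  intro V hV
  let e := RelProj.emb p chart U hU
  have hV' : e ⁻¹ᵁ V ≤ Proj.basicOpen (𝒮.deg U hU) g := fun z hz => by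
    obtain ⟨w, hw, hwz⟩ := hV hz
    rwa [← e.isOpenEmbedding.injective hwz]
  have h1 : Function.Bijective ((lam U hU).app V) :=
    hO.bijective U hU V (hV.trans (image_le hU _))
  have h2 : Function.Bijective (e.app V) := by
    have : IsIso (e.app V) := e.isIso_app V fun x hx => by
      obtain ⟨w, -, hw⟩ := hV hx
      exact ⟨w, hw⟩
    exact ConcreteCategory.bijective_of_isIso _
  have h3 := GrTwistOne.isGen_oneSec hg (e ⁻¹ᵁ V) hV'
  have h4 : (lam U hU).app V (rs O1 (hV.trans (image_le hU _)) t) =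
      rs (GrTwist.twist (𝒮.deg U hU) ((1 : ℕ) : ℤ)) hV'
        (rs (GrTwist.twist (𝒮.deg U hU) ((1 : ℕ) : ℤ)) le_top (GrTwistOne.oneSec hg)) := by
    rw [← HomGlue.rs_app]
    refine Subtype.ext (funext fun y => Subtype.ext ?_)
    exact hval ⟨y.1, image_le hU ⊤ ⟨y.1, trivial, rfl⟩⟩ |>.trans rfl
  have h5 : ∀ a : Γ(P, V), (lam U hU).app V (a • rs O1 hV (rs O1 (image_le hU _) t)) =
      (show Γ(GrTwist.twist (𝒮.deg U hU) ((1 : ℕ) : ℤ), e ⁻¹ᵁ V) from e.app V a •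
        rs (GrTwist.twist (𝒮.deg U hU) ((1 : ℕ) : ℤ)) hV'
          (rs (GrTwist.twist (𝒮.deg U hU) ((1 : ℕ) : ℤ)) le_top (GrTwistOne.oneSec hg))) := fun a => by
    rw [rs_rs, Scheme.Modules.Hom.app_smul, h4]
    rfl
  refine (Function.Bijective.of_comp_iff' h1 _).1 ?_
  have h6 : ((lam U hU).app V ∘ fun a : Γ(P, V) => a • rs O1 hV (rs O1 (image_le hU _) t)) =
      (fun b : Γ(Proj (𝒮.deg U hU), e ⁻¹ᵁ V) => b •
        rs (GrTwist.twist (𝒮.deg U hU) ((1 : ℕ) : ℤ)) hV'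
          (rs (GrTwist.twist (𝒮.deg U hU) ((1 : ℕ) : ℤ)) le_top (GrTwistOne.oneSec hg))) ∘ e.app V :=
    funext h5
  rw [h6]
  exact h3.comp h2

end Groth.Agent.Lib.SymAlg.Frame
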