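import Groth.Agent.Lib.SymAlg.Main

/-!
# Sections and charts of symmetric algebras
-/

set_option autoImplicit false
set_option backward.isDefEq.respectTransparency false
universe u

open CategoryTheory CategoryTheory.Limits AlgebraicGeometry TopologicalSpace Opposite

noncomputable section

namespace Groth.Agent.Lib.SymAlg.Sections

variable {S : Scheme.{u}}

/-- A module map into an algebra, on one open, as a linear map. -/
def lin {E : S.Modules} (A : RelSpec.QCAlg S) (j : E ⟶ A.toModule) (U : S.Opens) :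
    letI := (A.str.app (op U)).hom.toAlgebra
    Γ(E, U) →ₗ[Γ(S, U)] A.presheaf.obj (op U) :=
  letI := (A.str.app (op U)).hom.toAlgebra
  { toFun := fun m => j.app U m
    map_add' := map_add _
    map_smul' := fun r m => by exact (j.app_smul r m).trans rfl }

/-- The comparison map from the symmetric algebra of the sections. -/
def cmp {E : S.Modules} (A : RelSpec.QCAlg S) (j : E ⟶ A.toModule) (U : S.Opens) :
    SymmetricAlgebra Γ(S, U) Γ(E, U) →+* A.presheaf.obj (op U) :=
  letI := (A.str.app (op U)).hom.toAlgebra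
  (SymmetricAlgebra.lift (lin A j U)).toRingHom

theorem cmp_algebraMap {E : S.Modules} (A : RelSpec.QCAlg S) (j : E ⟶ A.toModule) (U : S.Opens) (r : Γ(S, U)) :
    cmp A j U (algebraMap Γ(S, U) _ r) = A.str.app (op U) r := by
  letI := (A.str.app (op U)).hom.toAlgebra
  exact AlgHom.commutes _ r

theorem cmp_ι {E : S.Modules} (A : RelSpec.QCAlg S) (j : E ⟶ A.toModule) (U : S.Opens) (m : Γ(E, U)) :
    cmp A j U (SymmetricAlgebra.ι Γ(S, U) Γ(E, U) m) = j.app U m := by
  letI := (A.str.app (op U)).hom.toAlgebra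
  exact SymmetricAlgebra.lift_ι_apply _ m

theorem toModuleMap_app {A B : RelSpec.QCAlg S} (φ : A ⟶ B) (U : S.Opens) (x : Γ(A.toModule, U)) :
    (RelSpec.QCAlg.Hom.toModuleMap φ).app U x = φ.hom.app (op U) x := rfl

theorem toModuleMap_comp {A B C : RelSpec.QCAlg S} (φ : A ⟶ B) (ψ : B ⟶ C) :
    RelSpec.QCAlg.Hom.toModuleMap (φ ≫ ψ) =
      RelSpec.QCAlg.Hom.toModuleMap φ ≫ RelSpec.QCAlg.Hom.toModuleMap ψ := rfl

theorem toModuleMap_id (A : RelSpec.QCAlg S) :
    RelSpec.QCAlg.Hom.toModuleMap (𝟙 A) = 𝟙 A.toModule := rfl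

/-- Over an affine open a symmetric algebra is the symmetric algebra of the sections. -/
theorem cmp_bijective {E : S.Modules} [E.IsQuasicoherent] {A : RelSpec.QCAlg S} {j : E ⟶ A.toModule}
    (hA : RelSpec.IsSymAlg E A j) {U : S.Opens} (hU : IsAffineOpen U) : Function.Bijective (cmp A j U) := by
  obtain ⟨j₀, hj₀⟩ := Main.exists_j E
  let U' : S.AffineZariskiSite := ⟨U, hU⟩
  obtain ⟨ψ, hψ, -⟩ := hA (Main.sym E) j₀
  -- the comparison for the constructed algebra
  have h₀ : cmp (Main.sym E) j₀ U = (Main.evInv E U').hom := Loc.ringHom_ext (fun r => by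
      rw [cmp_algebraMap]; exact (Main.evInv_algebraMap E U' r).symm)
    (fun m => by rw [cmp_ι]; exact hj₀ U' m)
  have hb₀ : Function.Bijective (cmp (Main.sym E) j₀ U) := by
    rw [h₀]
    haveI : IsIso (Main.evInv E U') := by unfold Main.evInv; infer_instance
    exact ConcreteCategory.bijective_of_isIso (Main.evInv E U')
  obtain ⟨θ, hθ⟩ := Main.exists_lift E j₀ hj₀ A j
  have hid : ψ ≫ θ = 𝟙 A := (hA A j).unique (by
    rw [toModuleMap_comp, ← Category.assoc, hψ, hθ]) (by rw [toModuleMap_id, Category.comp_id])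
  have hθ' : (θ.hom.app (op U)).hom.comp (cmp (Main.sym E) j₀ U) = cmp A j U := Loc.ringHom_ext (fun r => by
      rw [RingHom.comp_apply, cmp_algebraMap, cmp_algebraMap]
      exact congr($(NatTrans.congr_app θ.comm (op U)) r))
    (fun m => by
      rw [RingHom.comp_apply, cmp_ι, cmp_ι, ← hθ]
      rfl)
  have hψ' : (ψ.hom.app (op U)).hom.comp (cmp A j U) = cmp (Main.sym E) j₀ U := Loc.ringHom_ext (fun r => by
      rw [RingHom.comp_apply, cmp_algebraMap, cmp_algebraMap]
      exact congr($(NatTrans.congr_app ψ.comm (op U)) r))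
    (fun m => by
      rw [RingHom.comp_apply, cmp_ι, cmp_ι, ← hψ]
      rfl)
  refine ⟨fun a b hab => hb₀.1 ?_, fun y => ?_⟩
  · rw [← hψ', RingHom.comp_apply, RingHom.comp_apply, hab]
  · obtain ⟨x, hx⟩ := hb₀.2 (ψ.hom.app (op U) y)
    refine ⟨x, ?_⟩
    rw [← hθ', RingHom.comp_apply, hx]
    exact congr($(NatTrans.congr_app (congrArg RelSpec.QCAlg.Hom.hom hid) (op U)) y)

/-- The chart over an affine open is the preimage of the chart. -/
theorem isPullback_chart {A B : RelSpec.QCAlg S} (φ : A ⟶ B) (U : S.Opens) (hU : IsAffineOpen U) :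
    IsPullback (B.ι U hU) (Spec.map (φ.hom.app (op U))) (RelSpec.QCAlg.specMap φ) (A.ι U hU) := by
  refine (IsOpenImmersion.isPullback (Spec.map (φ.hom.app (op U))) (B.ι U hU) (A.ι U hU)
    (RelSpec.QCAlg.specMap φ) (RelSpec.QCAlg.ι_specMap U hU φ) ?_).flip
  rw [← A.π_preimage U hU, ← B.π_preimage U hU, ← Scheme.Hom.comp_preimage, RelSpec.QCAlg.specMap_π]

theorem iSup_charts (A : RelSpec.QCAlg S) {ι : Type*} (U : ι → S.Opens) (hU : ∀ i, IsAffineOpen (U i))
    (hcov : ⨆ i, U i = ⊤) (x : A.spec) : ∃ i, x ∈ Set.range (A.ι (U i) (hU i)) := by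
  obtain ⟨i, hi⟩ := Opens.mem_iSup.1 (hcov.ge (show A.π x ∈ (⊤ : S.Opens) from trivial))
  exact ⟨i, (A.π_preimage (U i) (hU i)).le hi⟩

/-- The cover of the relative spectrum by the charts over a cover by affine opens. -/
def chartCover (A : RelSpec.QCAlg S) {ι : Type u} (U : ι → S.Opens) (hU : ∀ i, IsAffineOpen (U i))
    (hcov : ⨆ i, U i = ⊤) : A.spec.OpenCover :=
  A.spec.openCoverOfIsOpenCover (fun i => (A.ι (U i) (hU i)).opensRange)
    (IsOpenCover.mk (top_le_iff.1 fun x _ => Opens.mem_iSup.2 (iSup_charts A U hU hcov x)))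

/-- A property local on the source, checked on charts. -/
theorem of_charts (P : MorphismProperty Scheme.{u}) [IsZariskiLocalAtSource P] (A : RelSpec.QCAlg S)
    {T : Scheme.{u}} (f : A.spec ⟶ T) {ι : Type u} (U : ι → S.Opens) (hU : ∀ i, IsAffineOpen (U i))
    (hcov : ⨆ i, U i = ⊤) (h : ∀ i, P (A.ι (U i) (hU i) ≫ f)) : P f :=
  IsZariskiLocalAtSource.of_openCover (chartCover A U hU hcov) fun i => by
    have e : (A.ι (U i) (hU i)).opensRange.ι = (A.ι (U i) (hU i)).isoOpensRange.inv ≫ A.ι (U i) (hU i) := by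
      simp
    show P ((A.ι (U i) (hU i)).opensRange.ι ≫ f)
    rw [e, Category.assoc, MorphismProperty.cancel_left_of_respectsIso P]
    exact h i

/-- A morphism which is an isomorphism over the members of a cover by open immersions is one. -/
theorem isIso_of_squares {X P : Scheme.{u}} (c : X ⟶ P) {ι : Type u} {Q : ι → Scheme.{u}}
    (q : ∀ i, Q i ⟶ P) [∀ i, IsOpenImmersion (q i)] (hcov : ∀ z, ∃ i, z ∈ Set.range (q i))
    {C : ι → Scheme.{u}} (a : ∀ i, C i ⟶ X) (φ : ∀ i, C i ⟶ Q i) [∀ i, IsIso (φ i)]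
    (h : ∀ i, IsPullback (a i) (φ i) c (q i)) : IsIso c := by
  refine IsZariskiLocalAtTarget.of_openCover (P := MorphismProperty.isomorphisms Scheme.{u})
    (P.openCoverOfIsOpenCover (fun i => (q i).opensRange)
      (IsOpenCover.mk (top_le_iff.1 fun z _ => Opens.mem_iSup.2 (hcov z)))) fun i => ?_
  have hp2 : IsPullback (a i) (φ i ≫ (q i).isoOpensRange.hom) c (q i).opensRange.ι := by
    refine (h i).of_iso (Iso.refl _) (Iso.refl _) (q i).isoOpensRange (Iso.refl _) ?_ ?_ ?_ ?_ <;> simp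
  show IsIso (pullback.snd c (q i).opensRange.ι)
  rw [← hp2.isoPullback_inv_snd]
  infer_instance

end Groth.Agent.Lib.SymAlg.Sections
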