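import Groth.Agent.Lib.SymAlg.Frame
import Groth.Agent.Lib.SymAlg.Exists
import Groth.Agent.Lib.ProjQ.Invertible
import Groth.Agent.H81.RelProj.Exists
import Groth.Agent.H81.RelProj.RelTwist

/-!
# An invertible module is very ample relative to the identity
-/

noncomputable section

set_option autoImplicit false
universe u

open CategoryTheory CategoryTheory.Limits AlgebraicGeometry Opposite TopologicalSpace
open scoped HomogeneousIdeal

namespace Groth.Agent.Lib.SymAlg.LineVA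

open Groth.Agent.Lib Groth.Agent.H58VA TensorMod TensorMod.Dual TensorMod.Gen TensorMod.HomGlue
open Groth.Agent.Lib.RelProjBasics.Basic (chartStr)

section Generic

variable {A σ : Type u} [CommRing A] [SetLike σ A] [AddSubgroupClass σ A] {𝒜 : ℕ → σ} [GradedRing 𝒜]

theorem appTop_topIso_inv {X : Scheme.{u}} (U : X.Opens) (j : X ⟶ U.toScheme) (hj : j ≫ U.ι = 𝟙 X)
    (hU : ⊤ ≤ U) (s : Γ(X, U)) : j.appTop (U.topIso.inv s) = X.presheaf.map (homOfLE hU).op s := by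
  have e : U.topIso.inv s = U.ι.appTop (X.presheaf.map (homOfLE hU).op s) := by
    simp only [← CommRingCat.comp_apply]
    congr 2
    rw [Scheme.Opens.topIso, Scheme.Opens.ι_appTop]
    erw [← Functor.map_comp]
    exact congrArg X.presheaf.map (Subsingleton.elim _ _)
  rw [e, ← CommRingCat.comp_apply, ← Scheme.Hom.comp_appTop, hj]
  simp

theorem toSpecZero_appTop_val (a : 𝒜 0) (x : (⊤ : Opens (ProjectiveSpectrum.top 𝒜))) :
    ((((Proj.toSpecZero 𝒜).appTop) ((Scheme.ΓSpecIso (CommRingCat.of (𝒜 0))).inv a) :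
      Γ(Proj 𝒜, ⊤)) : GrTwist.O (𝒜 := 𝒜) (op ⊤)).1 x =
      HomogeneousLocalization.fromZeroRingHom 𝒜 _ a := by
  have hj : ((Proj 𝒜).topIso.inv ≫ ((Proj 𝒜).isoOfEq (Proj.basicOpen_one 𝒜)).inv) ≫
      (Proj.basicOpen 𝒜 (1 : A)).ι = 𝟙 (Proj 𝒜) := by
    rw [Category.assoc, Scheme.isoOfEq_inv_ι, ← Scheme.topIso_hom, Iso.inv_hom_id]
  rw [Proj.toSpecZero, ← Category.assoc, Scheme.Hom.comp_appTop, Scheme.Hom.comp_appTop]
  have h := ConcreteCategory.congr_hom (Scheme.ΓSpecIso_inv_naturality (CommRingCat.ofHom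
    (HomogeneousLocalization.fromZeroRingHom 𝒜 (Submonoid.powers (1 : A))))) a
  simp only [CommRingCat.comp_apply] at h ⊢
  erw [← h]
  rw [Scheme.Hom.appTop, Scheme.Hom.appTop, Proj.basicOpenToSpec_app_top]
  erw [ConcreteCategory.comp_apply, ConcreteCategory.comp_apply, ConcreteCategory.comp_apply,
    Iso.inv_hom_id_apply]
  erw [appTop_topIso_inv (Proj.basicOpen 𝒜 (1 : A)) _ hj (by simp)]
  apply HomogeneousLocalization.val_injective
  refine (ProjectiveSpectrum.Proj.awayToSection_apply 𝒜 1 _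
    ⟨x.1, (by simp : ⊤ ≤ Proj.basicOpen 𝒜 (1 : A)) trivial⟩).trans ?_
  have : (x.1 : ProjectiveSpectrum 𝒜).asHomogeneousIdeal.toIdeal.IsPrime := x.1.isPrime
  refine (congrArg _ (Localization.mk_one_eq_algebraMap (a : A))).trans ?_
  erw [IsLocalization.map_eq]
  exact (Localization.mk_one_eq_algebraMap (a : A)).symm

theorem toSpec_appLE_val {R : CommRingCat.{u}} (φ : R →+* 𝒜 0) (a : R)
    (V : (Proj 𝒜).Opens) (x : V) :
    (((Proj.toSpecZero 𝒜 ≫ Spec.map (CommRingCat.ofHom φ)).appLE ⊤ V le_top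
      ((Scheme.ΓSpecIso R).inv a) : Γ(Proj 𝒜, V)) : GrTwist.O (𝒜 := 𝒜) (op V)).1 x =
      HomogeneousLocalization.fromZeroRingHom 𝒜 _ (φ a) := by
  refine Eq.trans ?_ (toSpecZero_appTop_val (φ a) ⟨x.1, trivial⟩)
  simp only [Scheme.Hom.appLE, CommRingCat.comp_apply]
  have h : (Proj.toSpecZero 𝒜 ≫ Spec.map (CommRingCat.ofHom φ)).app ⊤ ((Scheme.ΓSpecIso R).inv a) =
      (Proj.toSpecZero 𝒜).appTop ((Scheme.ΓSpecIso (CommRingCat.of (𝒜 0))).inv (φ a)) := by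
    have e : (Scheme.ΓSpecIso (CommRingCat.of (𝒜 0))).inv (φ a) =
        (Spec.map (CommRingCat.ofHom φ)).appTop ((Scheme.ΓSpecIso R).inv a) :=
      ConcreteCategory.congr_hom (Scheme.ΓSpecIso_inv_naturality (CommRingCat.ofHom φ)) a
    rw [e]
    rfl
  rw [h]
  rfl

end Generic

section Line

variable {S P : Scheme.{u}} {𝒮 : RelProj.QCGrAlg S} {p : P ⟶ S}
  {chart : ∀ (U : S.Opens) (hU : IsAffineOpen U), ((p ⁻¹ᵁ U : P.Opens) : Scheme.{u}) ≅ Proj (𝒮.deg U hU)}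
  {O1 : P.Modules}
  {lam : ∀ (U : S.Opens) (hU : IsAffineOpen U),
    O1 ⟶ (Scheme.Modules.pushforward (RelProj.emb p chart U hU)).obj (GrTwist.twist (𝒮.deg U hU) 1)}
  {L : S.Modules} {j : L ⟶ 𝒮.toModule}

theorem emb_comp (hP : RelProj.IsRelProj 𝒮 p chart) {U : S.Opens} (hU : IsAffineOpen U) :
    RelProj.emb p chart U hU ≫ p = chartStr 𝒮 U hU ≫ hU.fromSpec := by
  rw [RelProj.emb, Category.assoc, ← hP.chart_over U hU, Iso.inv_hom_id_assoc, chartStr, Category.assoc]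

theorem val_str (hP : RelProj.IsRelProj 𝒮 p chart) {U : S.Opens} (hU : IsAffineOpen U) (a : Γ(S, U))
    (y : ↥(RelProj.emb p chart U hU ⁻¹ᵁ (p ⁻¹ᵁ U))) :
    (((RelProj.emb p chart U hU).app (p ⁻¹ᵁ U) (p.app U a) :
      Γ(Proj (𝒮.deg U hU), RelProj.emb p chart U hU ⁻¹ᵁ (p ⁻¹ᵁ U))) :
        GrTwist.O (𝒜 := 𝒮.deg U hU) (op (RelProj.emb p chart U hU ⁻¹ᵁ (p ⁻¹ᵁ U)))).1 y =
      HomogeneousLocalization.fromZeroRingHom (𝒮.deg U hU) _ ((𝒮.strZero U hU).hom a) := by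
  have key : ∀ (f : Proj (𝒮.deg U hU) ⟶ S) (_ : f = chartStr 𝒮 U hU ≫ hU.fromSpec)
      (V : (Proj (𝒮.deg U hU)).Opens) (e : V ≤ f ⁻¹ᵁ U),
      f.appLE U V e a = (chartStr 𝒮 U hU).appLE ⊤ V le_top ((Scheme.ΓSpecIso Γ(S, U)).inv a) := by
    rintro _ rfl V e
    have e' : (⊤ : (Spec Γ(S, U)).Opens) ≤ hU.fromSpec ⁻¹ᵁ U := hU.fromSpec_preimage_self.ge
    rw [← Scheme.Hom.appLE_comp_appLE (chartStr 𝒮 U hU) hU.fromSpec U ⊤ V e' le_top, CommRingCat.comp_apply]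
    have h2 : hU.fromSpec.appLE U ⊤ e' = (Scheme.ΓSpecIso Γ(S, U)).inv := by
      simp only [Scheme.Hom.appLE, hU.fromSpec_app_self, Category.assoc, ← Functor.map_comp]
      erw [CategoryTheory.Functor.map_id, Category.comp_id]
    rw [h2]
  have h : (RelProj.emb p chart U hU ≫ p).app U a = (chartStr 𝒮 U hU).appLE ⊤
      (RelProj.emb p chart U hU ⁻¹ᵁ (p ⁻¹ᵁ U)) le_top ((Scheme.ΓSpecIso Γ(S, U)).inv a) := by
    rw [Scheme.Hom.app_eq_appLE]
    exact key _ (emb_comp hP hU) _ _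
  refine (congrArg (fun z : Γ(Proj (𝒮.deg U hU), RelProj.emb p chart U hU ⁻¹ᵁ (p ⁻¹ᵁ U)) =>
    (z : GrTwist.O (𝒜 := 𝒮.deg U hU) (op (RelProj.emb p chart U hU ⁻¹ᵁ (p ⁻¹ᵁ U)))).1 y) h).trans ?_
  exact toSpec_appLE_val (𝒮.strZero U hU).hom a _ y

variable (hO : RelProj.IsRelTwist 𝒮 p chart 1 O1 lam) (hj : RelProj.IsGrSymAlg L 𝒮 j)

include hO hj in
theorem exists_sec {U : S.Opens} (hU : IsAffineOpen U) (x : Γ(L, U)) :
    ∃ t : Γ(O1, p ⁻¹ᵁ U), ∀ y : ↥(RelProj.emb p chart U hU ⁻¹ᵁ (p ⁻¹ᵁ U)),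
      GrTwist.val (V := RelProj.emb p chart U hU ⁻¹ᵁ (p ⁻¹ᵁ U)) ((lam U hU).app (p ⁻¹ᵁ U) t) y =
        GrTwistOne.frac1 y.1 (j.app U x) := by
  obtain ⟨t, ht⟩ := (hO.bijective U hU (p ⁻¹ᵁ U) le_rfl).2
    (rs (GrTwist.twist (𝒮.deg U hU) ((1 : ℕ) : ℤ)) le_top (GrTwistOne.oneSec (hj.2 U hU x)))
  exact ⟨t, fun y => (congrArg (fun z => GrTwist.val (V := RelProj.emb p chart U hU ⁻¹ᵁ (p ⁻¹ᵁ U)) z y) ht).trans rfl⟩

/-- The fundamental map on an affine open. -/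
def sec {U : S.Opens} (hU : IsAffineOpen U) (x : Γ(L, U)) : Γ(O1, p ⁻¹ᵁ U) := (exists_sec hO hj hU x).choose

theorem val_sec {U : S.Opens} (hU : IsAffineOpen U) (x : Γ(L, U))
    (y : ↥(RelProj.emb p chart U hU ⁻¹ᵁ (p ⁻¹ᵁ U))) :
    GrTwist.val (V := RelProj.emb p chart U hU ⁻¹ᵁ (p ⁻¹ᵁ U)) ((lam U hU).app (p ⁻¹ᵁ U) (sec hO hj hU x)) y =
      GrTwistOne.frac1 y.1 (j.app U x) :=
  (exists_sec hO hj hU x).choose_spec y

theorem eq_sec {U : S.Opens} (hU : IsAffineOpen U) (x : Γ(L, U)) (t : Γ(O1, p ⁻¹ᵁ U))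
    (h : ∀ y : ↥(RelProj.emb p chart U hU ⁻¹ᵁ (p ⁻¹ᵁ U)),
      GrTwist.val (V := RelProj.emb p chart U hU ⁻¹ᵁ (p ⁻¹ᵁ U)) ((lam U hU).app (p ⁻¹ᵁ U) t) y =
        GrTwistOne.frac1 y.1 (j.app U x)) : t = sec hO hj hU x := by
  refine (hO.bijective U hU (p ⁻¹ᵁ U) le_rfl).1 (Subtype.ext (funext fun y => Subtype.ext ?_))
  exact (h y).trans (val_sec hO hj hU x y).symm

theorem sec_smul (hP : RelProj.IsRelProj 𝒮 p chart) {U : S.Opens} (hU : IsAffineOpen U) (a : Γ(S, U))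
    (x : Γ(L, U)) : sec hO hj hU (a • x) = p.app U a • sec hO hj hU x := by
  refine (eq_sec hO hj hU (a • x) _ fun y => ?_).symm
  rw [Scheme.Modules.Hom.app_smul]
  refine ((GrTwist.coe_smul_val _ y.1 _ _)).trans ?_
  have hv := val_str hP hU a y
  refine (congrArg₂ (fun c d => HomogeneousLocalization.val c * d) hv (val_sec hO hj hU x y)).trans ?_
  rw [Scheme.Modules.Hom.app_smul, H81.RelProj.Localize.val_fromZero]
  dsimp only [GrTwistOne.frac1]
  erw [Localization.mk_mul]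
  exact congrArg₂ Localization.mk rfl (Subtype.ext (one_mul _))

theorem rs_sec_basicOpen (hP : RelProj.IsRelProj 𝒮 p chart) {U : S.Opens} (hU : IsAffineOpen U)
    (r : Γ(S, U)) (x : Γ(L, U)) :
    rs O1 (p.preimage_mono (S.basicOpen_le r)) (sec hO hj hU x) =
      sec hO hj (hU.basicOpen r) (rs L (S.basicOpen_le r) x) := by
  refine eq_sec hO hj (hU.basicOpen r) _ _ fun y => ?_
  have hy' : (RelProj.emb p chart U hU).base (ProjectiveSpectrum.comap
      (𝒮.res hU (hU.basicOpen r) (S.basicOpen_le r)) (𝒮.irrelevant_le_map U hU r) y.1) ∈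
      p ⁻¹ᵁ S.basicOpen r := by
    have h := congr($(RelProj.map_res_emb hP U hU r) y.1)
    rw [Scheme.Hom.comp_apply] at h
    exact h ▸ y.2
  rw [hO.compat U hU r (p ⁻¹ᵁ S.basicOpen r) _ y.1 y.2 hy', ← rs_app]
  refine (congrArg (GrTwist.locMap _ _ y.1) (val_sec hO hj hU x ⟨_, p.preimage_mono (S.basicOpen_le r) hy'⟩)).trans ?_
  refine (GrTwist.locMap_mk _ _ _ _ _).trans ?_
  exact congrArg₂ Localization.mk
    (PresheafOfModules.naturality_apply j.val (homOfLE (S.basicOpen_le r)).op x).symm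
    (Subtype.ext (map_one _))

theorem rs_sec (hP : RelProj.IsRelProj 𝒮 p chart) {U V : S.Opens} (hU : IsAffineOpen U)
    (hV : IsAffineOpen V) (hVU : V ≤ U) (x : Γ(L, U)) :
    rs O1 (p.preimage_mono hVU) (sec hO hj hU x) = sec hO hj hV (rs L hVU x) := by
  choose f g hfg hz using fun z : V =>
    exists_basicOpen_le_affine_inter hV hU z.1 ⟨z.2, hVU z.2⟩
  refine sections_ext_cover (fun z => p ⁻¹ᵁ S.basicOpen (f z)) O1
    (fun y hy => Opens.mem_iSup.2 ⟨⟨p y, hy⟩, hz ⟨p y, hy⟩⟩) fun z => ?_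
  have key : ∀ (D : S.Opens) (hD : IsAffineOpen D) (W : S.Opens) (hW : IsAffineOpen W) (h : D ≤ W) (r : Γ(S, W)),
      D = S.basicOpen r → ∀ w : Γ(L, W),
        rs O1 (p.preimage_mono h) (sec hO hj hW w) = sec hO hj hD (rs L h w) := by
    rintro D hD W hW h r rfl w
    exact rs_sec_basicOpen hO hj hP hW r w
  have hle : S.basicOpen (f z) ≤ V := S.basicOpen_le _
  have h1 := key _ (hV.basicOpen (f z)) V hV hle (f z) rfl (rs L hVU x)
  have h2 := key _ (hV.basicOpen (f z)) U hU (hle.trans hVU) (g z) (hfg z) x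
  have hinf : p ⁻¹ᵁ V ⊓ p ⁻¹ᵁ S.basicOpen (f z) ≤ p ⁻¹ᵁ S.basicOpen (f z) := inf_le_right
  have h3 := congrArg (rs O1 hinf) (h2.trans ((by rw [rs_rs]) : _ = sec hO hj (hV.basicOpen (f z)) (rs L hle (rs L hVU x))))
  rw [rs_rs] at h3
  have h4 := congrArg (rs O1 hinf) h1
  rw [rs_rs] at h4
  rw [rs_rs]
  exact h3.trans h4.symm

theorem isGen_sec (hLq : Coh.IsQCoh L) [IsIso p] {U : S.Opens} (hU : IsAffineOpen U)
    {e : Γ(L, U)} (he : IsGen L U e) :
    IsGen ((Scheme.Modules.pushforward p).obj O1) U (sec hO hj hU e) := by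
  intro V hV
  have hnot : ∀ w : Proj (𝒮.deg U hU), w ∈ Proj.basicOpen (𝒮.deg U hU) (j.app U e) := by
    intro w hmem
    obtain ⟨e', he'⟩ := SymAlg.Gen.exists_not_mem hj hLq hU w
    obtain ⟨a, ha⟩ := (he U le_rfl).2 e'
    simp only [rs_self] at ha
    apply he'
    rw [← ha, QCAlgSub.Basic.jm, Scheme.Modules.Hom.app_smul]
    exact Ideal.mul_mem_left _ _ hmem
  have hle : p ⁻¹ᵁ V ≤ RelProj.emb p chart U hU ''ᵁ Proj.basicOpen (𝒮.deg U hU) (j.app U e) := fun x hx => by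
    obtain ⟨y, hy⟩ := Frame.exists_point (chart := chart) hU (hV hx)
    exact ⟨y, hnot y, hy⟩
  have h := Frame.isGen_of_val hO hU _ (hj.2 U hU e) (val_sec hO hj hU e) (p ⁻¹ᵁ V) hle
  simp only [rs_rs] at h
  exact h.comp (ConcreteCategory.bijective_of_isIso (p.app V))

end Line

/-- The adjoint equivalence of modules along an isomorphism. -/
def pullbackInvIso {S P : Scheme.{u}} (p : P ⟶ S) [IsIso p] :
    Scheme.Modules.pullback (inv p) ≅ Scheme.Modules.pushforward p :=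
  (Scheme.Modules.pullbackPushforwardAdjunction (inv p)).leftAdjointUniq
    (CategoryTheory.Equivalence.mk (Scheme.Modules.pushforward p) (Scheme.Modules.pushforward (inv p))
      ((Scheme.Modules.pushforwardId P).symm ≪≫
        Scheme.Modules.pushforwardCongr (IsIso.hom_inv_id p).symm ≪≫
        (Scheme.Modules.pushforwardComp p (inv p)).symm)
      (Scheme.Modules.pushforwardComp (inv p) p ≪≫
        Scheme.Modules.pushforwardCongr (IsIso.inv_hom_id p) ≪≫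
        Scheme.Modules.pushforwardId S)).toAdjunction

theorem isRelVeryAmple_id (S : Scheme.{u}) (L : S.Modules) (hL : PicF.IsInvertible L) :
    RelProj.IsRelVeryAmple (𝟙 S) L := by
  have hLq : L.IsQuasicoherent := QCohInv.isQCoh_of_isInvertible hL
  let 𝒮 := SymAlg.Exists.grAlg L
  have hj := SymAlg.Exists.isGrSymAlg L
  have hP := H81.RelProj.Exists.isRelProj 𝒮
  obtain ⟨O1, lam, hO⟩ := H81.RelProj.RelTwist.exists_isRelTwist hP 1
  let p := (H81.RelProj.Exists.glueData 𝒮).toBase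
  have : IsIso p := ProjQ.isIso_proj hL hLq hj hP
  have hc : ∀ x : S, ∃ (U : S.Opens) (_ : IsAffineOpen U) (e : Γ(L, U)), x ∈ U ∧ IsGen L U e := fun x => by
    obtain ⟨U, e, hxU, he⟩ := Gen.isInvertible_iff.1 hL x
    obtain ⟨V, hV, hxV, hVU⟩ := exists_isAffineOpen_mem_and_subset (X := S) (x := x) (U := U) hxU
    exact ⟨V, hV, rs L hVU e, hxV, he.res hVU⟩
  choose U hU e hxU he using hc
  obtain ⟨φ, -⟩ := exists_iso_of_gen (M := (Scheme.Modules.pushforward p).obj O1)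
    (top_le_iff.1 fun x _ => Opens.mem_iSup.2 ⟨x, hxU x⟩) e he (fun x => sec hO hj (hU x) (e x))
    (fun x => isGen_sec hO hj hLq (hU x) (he x)) fun a b W ha hb c hc => by
      have hA : ∀ z : W, ∃ D : S.Opens, IsAffineOpen D ∧ z.1 ∈ D ∧ D ≤ W := fun z => by
        obtain ⟨D, hD, hzD, hDW⟩ := exists_isAffineOpen_mem_and_subset (X := S) (x := z.1) (U := W) z.2
        exact ⟨D, hD, hzD, hDW⟩
      choose D hD hzD hDW using hA
      refine sections_ext_cover (fun z => p ⁻¹ᵁ D z) O1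
        (fun y hy => Opens.mem_iSup.2 ⟨⟨p y, hy⟩, hzD ⟨p y, hy⟩⟩) fun z => ?_
      have h := congrArg (sec hO hj (hD z)) (congrArg (rs L (hDW z)) hc)
      rw [rs_rs, rs_smul, rs_rs, sec_smul hO hj hP, ← rs_sec hO hj hP (hU a) (hD z),
        ← rs_sec hO hj hP (hU b) (hD z)] at h
      have hinf : p ⁻¹ᵁ W ⊓ p ⁻¹ᵁ D z ≤ p ⁻¹ᵁ D z := inf_le_right
      have h' := congrArg (rs O1 hinf) h
      rw [rs_smul, rs_rs, rs_rs] at h'
      change rs O1 inf_le_left (rs O1 (p.preimage_mono ha) _) =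
        rs O1 inf_le_left (p.app W c • rs O1 (p.preimage_mono hb) _)
      rw [rs_smul, rs_rs, rs_rs, h']
      congr 1
      simp only [← CommRingCat.comp_apply]
      rw [Scheme.Hom.naturality, Category.assoc, ← Functor.map_comp]
      rfl
  exact ⟨L, hLq, 𝒮, _, hj, _, p, _, hP, O1, lam, hO, inv p, inferInstance, IsIso.inv_hom_id p,
    ⟨φ ≪≫ ((pullbackInvIso p).app O1).symm⟩⟩

end Groth.Agent.Lib.SymAlg.LineVA
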