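import Groth.Agent.Lib.SymAlg.Unique
import Groth.Agent.Lib.RelSpecBasics.Gamma

/-!
# Reading properties of `Spec(A) ⟶ S` off the structure maps on affine opens
-/

set_option autoImplicit false
universe u

open CategoryTheory Limits AlgebraicGeometry Opposite TopologicalSpace
open Groth.Agent.Lib

namespace Groth.Agent.Lib.SymAlg.Affine

variable {S : Scheme.{u}} (A : RelSpec.QCAlg S)

/-- A property of ring maps respecting isomorphisms passes from the structure maps to `π`. -/
theorem app_of_str {Q : ∀ {R T : Type u} [CommRing R] [CommRing T], (R →+* T) → Prop}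
    (hQ : RingHom.RespectsIso Q) {U : S.Opens} (hU : IsAffineOpen U) (h : Q (A.str.app (op U)).hom) :
    Q (A.π.app U).hom := by
  haveI := RelSpecBasics.Gamma.isIso_gammaAff A U hU
  have e : A.π.app U = A.str.app (op U) ≫ inv (A.gammaAff U hU) := by
    rw [← A.π_app_gammaAff U hU, Category.assoc, IsIso.hom_inv_id, Category.comp_id]
  rw [e, CommRingCat.hom_comp]
  exact hQ.1 _ (asIso (inv (A.gammaAff U hU))).commRingCatIsoToRingEquiv h

theorem of_str {P : MorphismProperty Scheme.{u}}
    {Q : ∀ {R T : Type u} [CommRing R] [CommRing T], (R →+* T) → Prop} [HasRingHomProperty P Q]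
    (h : ∀ (U : S.Opens), IsAffineOpen U → Q (A.str.app (op U)).hom) : P A.π := by
  rw [IsZariskiLocalAtTarget.iff_of_iSup_eq_top (P := P) _ (iSup_affineOpens_eq_top S)]
  intro U
  haveI : IsAffine (U.1 : Scheme.{u}) := U.2
  haveI : IsAffine ((A.π ⁻¹ᵁ U.1 : A.spec.Opens) : Scheme.{u}) := U.2.preimage A.π
  rw [HasRingHomProperty.iff_of_isAffine (P := P)]
  have hQ : RingHom.RespectsIso Q := (HasRingHomProperty.isLocal_ringHomProperty P).respectsIso
  have h1 := app_of_str A hQ U.2 (h U.1 U.2)
  rw [morphismRestrict_appTop]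
  have key : ∀ T : S.Opens, T = U.1 → Q (A.π.app T).hom := fun T hT => by subst hT; exact h1
  exact (hQ.cancel_right_isIso _ _).2 (key _ (Scheme.Opens.ι_image_top _))

end Groth.Agent.Lib.SymAlg.Affine
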