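import Mathlib.LinearAlgebra.SymmetricAlgebra.Basic
import Mathlib.RingTheory.GradedAlgebra.Basic
import Mathlib.RingTheory.Localization.Away.Basic
import Mathlib.Algebra.Module.LocalizedModule.Basic

/-!
# Symmetric algebras: grading, functoriality, localization
-/

set_option autoImplicit false
universe u

open DirectSum

namespace Groth.Agent.Lib.SymAlg.Algebra

noncomputable section

section grading

variable {R M A : Type u} [CommRing R] [AddCommGroup M] [Module R M] [CommRing A] [_root_.Algebra R A]
  (f : M →ₗ[R] A)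

/-- The auxiliary map into the graded structure. -/
def gι : M →ₗ[R] ⨁ i : ℕ, ↥(LinearMap.range f ^ i) :=
  DirectSum.lof R ℕ (fun i => ↥(LinearMap.range f ^ i)) 1 ∘ₗ
    f.codRestrict _ fun m => by simpa only [pow_one] using LinearMap.mem_range_self f m

theorem gι_apply (m : M) :
    gι f m = DirectSum.of (fun i => ↥(LinearMap.range f ^ i)) 1
      ⟨f m, by simpa only [pow_one] using LinearMap.mem_range_self f m⟩ := rfl

variable {f}

/-- The grading of a symmetric algebra by the powers of the module. -/
@[reducible] def gradedAlgebra (h : IsSymmetricAlgebra f) :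
    GradedAlgebra ((LinearMap.range f ^ ·) : ℕ → Submodule R A) :=
  GradedAlgebra.ofAlgHom _ (h.lift (gι f))
    (h.algHom_ext (by
      ext m
      show DirectSum.coeAlgHom _ (h.lift (gι f) (f m)) = f m
      rw [h.lift_eq, gι_apply f, DirectSum.coeAlgHom_of]))
    fun i x => by
    obtain ⟨x, hx⟩ := x
    dsimp only [Subtype.coe_mk, DirectSum.lof_eq_of]
    induction hx using Submodule.pow_induction_on_left' with
    | algebraMap r =>
      rw [AlgHom.commutes, DirectSum.algebraMap_apply]; rfl
    | add x y i hx hy ihx ihy =>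
      rw [map_add, ihx, ihy, ← map_add]
      rfl
    | mem_mul m hm i x hx ih =>
      obtain ⟨_, rfl⟩ := hm
      rw [map_mul, ih, h.lift_eq, gι_apply f, DirectSum.of_mul_of]
      exact DirectSum.of_eq_of_gradedMonoid_eq (Sigma.subtype_ext (add_comm _ _) rfl)

/-- The same grading, by additive subgroups. -/
@[reducible] def gradedRing (h : IsSymmetricAlgebra f) :
    GradedRing (fun i : ℕ => (LinearMap.range f ^ i).toAddSubgroup) :=
  letI := gradedAlgebra h
  { one_mem := SetLike.GradedOne.one_mem (A := fun i : ℕ => LinearMap.range f ^ i)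
    mul_mem := fun _ _ _ _ ha hb => SetLike.mul_mem_graded (A := fun i : ℕ => LinearMap.range f ^ i) ha hb
    decompose' := DirectSum.decompose (fun i : ℕ => LinearMap.range f ^ i)
    left_inv := (DirectSum.decompose (fun i : ℕ => LinearMap.range f ^ i)).left_inv
    right_inv := (DirectSum.decompose (fun i : ℕ => LinearMap.range f ^ i)).right_inv }

end grading

section map

variable {R R' M M' : Type u} [CommRing R] [CommRing R'] [AddCommGroup M] [Module R M]
  [AddCommGroup M'] [Module R' M'] (ψ : R →+* R') (g : M →ₛₗ[ψ] M')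

/-- Functoriality of the symmetric algebra along a semilinear map. -/
def symMap : SymmetricAlgebra R M →+* SymmetricAlgebra R' M' :=
  letI : _root_.Algebra R (SymmetricAlgebra R' M') := ((algebraMap R' (SymmetricAlgebra R' M')).comp ψ).toAlgebra
  (SymmetricAlgebra.lift
    ({ toFun := fun m => SymmetricAlgebra.ι R' M' (g m)
       map_add' := fun a b => by rw [map_add, map_add]
       map_smul' := fun r m => by
        rw [g.map_smulₛₗ, LinearMap.map_smul, Algebra.smul_def]
        rfl } : M →ₗ[R] SymmetricAlgebra R' M')).toRingHom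

theorem symMap_algebraMap (r : R) :
    symMap ψ g (algebraMap R _ r) = algebraMap R' (SymmetricAlgebra R' M') (ψ r) := by
  letI : _root_.Algebra R (SymmetricAlgebra R' M') := ((algebraMap R' (SymmetricAlgebra R' M')).comp ψ).toAlgebra
  exact AlgHom.commutes _ r

theorem symMap_ι (m : M) : symMap ψ g (SymmetricAlgebra.ι R M m) = SymmetricAlgebra.ι R' M' (g m) := by
  letI : _root_.Algebra R (SymmetricAlgebra R' M') := ((algebraMap R' (SymmetricAlgebra R' M')).comp ψ).toAlgebra
  exact SymmetricAlgebra.lift_ι_apply _ m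

variable {ψ} {g}

/-- Two ring maps out of a symmetric algebra agreeing on scalars and on the module are equal. -/
theorem hom_ext {T : Type u} [CommRing T] {F G : SymmetricAlgebra R M →+* T}
    (h0 : ∀ r, F (algebraMap R _ r) = G (algebraMap R _ r))
    (h1 : ∀ m, F (SymmetricAlgebra.ι R M m) = G (SymmetricAlgebra.ι R M m)) : F = G := by
  refine RingHom.ext fun a => ?_
  induction a using SymmetricAlgebra.induction with
  | algebraMap r => exact h0 r
  | ι m => exact h1 m
  | mul a b ha hb => rw [map_mul, map_mul, ha, hb]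
  | add a b ha hb => rw [map_add, map_add, ha, hb]

theorem symMap_mem_pow {i : ℕ} {x : SymmetricAlgebra R M}
    (hx : x ∈ LinearMap.range (SymmetricAlgebra.ι R M) ^ i) :
    symMap ψ g x ∈ LinearMap.range (SymmetricAlgebra.ι R' M') ^ i := by
  induction hx using Submodule.pow_induction_on_left' with
  | algebraMap r =>
    rw [symMap_algebraMap, pow_zero, Submodule.one_eq_range]
    exact LinearMap.mem_range_self _ _
  | add x y i hx hy ihx ihy => rw [map_add]; exact add_mem ihx ihy
  | mem_mul m hm i x hx ih =>
    obtain ⟨n, rfl⟩ := hm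
    rw [map_mul, symMap_ι, pow_succ']
    exact Submodule.mul_mem_mul ⟨_, rfl⟩ ih

variable (f : R)

/-- The symmetric algebra commutes with localization away from an element. -/
theorem isLocalization_away (hR : letI := ψ.toAlgebra; IsLocalization.Away f R')
    (hext : ∀ s : M', ∃ (n : ℕ) (t : M), g t = ψ f ^ n • s)
    (hsep : ∀ t : M, g t = 0 → ∃ n : ℕ, f ^ n • t = 0) :
    letI := (symMap ψ g).toAlgebra
    IsLocalization.Away (algebraMap R (SymmetricAlgebra R M) f) (SymmetricAlgebra R' M') := by
  letI := ψ.toAlgebra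
  letI := (symMap ψ g).toAlgebra
  haveI := hR
  set F := algebraMap R (SymmetricAlgebra R M) f with hF
  have hu : IsUnit (symMap ψ g F) := by
    rw [hF, symMap_algebraMap]
    exact (IsLocalization.Away.algebraMap_isUnit f).map _
  refine ⟨?_, ?_, ?_⟩
  · rintro ⟨_, n, rfl⟩
    rw [map_pow]
    exact hu.pow n
  · intro z
    suffices h : ∃ (n : ℕ) (a : SymmetricAlgebra R M), z * symMap ψ g F ^ n = symMap ψ g a by
      obtain ⟨n, a, e⟩ := h
      exact ⟨⟨a, ⟨_, n, rfl⟩⟩, by rw [map_pow]; exact e⟩
    induction z using SymmetricAlgebra.induction with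
    | algebraMap r =>
      obtain ⟨⟨a, ⟨_, n, rfl⟩⟩, e⟩ := IsLocalization.surj (Submonoid.powers f) r
      refine ⟨n, algebraMap R _ a, ?_⟩
      rw [hF, ← map_pow, ← map_pow, symMap_algebraMap, symMap_algebraMap, ← map_mul]
      exact congrArg _ e
    | ι m =>
      obtain ⟨n, t, e⟩ := hext m
      refine ⟨n, SymmetricAlgebra.ι R M t, ?_⟩
      rw [symMap_ι, e, LinearMap.map_smul, Algebra.smul_def, hF, symMap_algebraMap, map_pow, mul_comm]
    | mul a b ha hb =>
      obtain ⟨n, a', ea⟩ := ha
      obtain ⟨m, b', eb⟩ := hb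
      exact ⟨n + m, a' * b', by rw [pow_add, map_mul, ← ea, ← eb]; ring⟩
    | add a b ha hb =>
      obtain ⟨n, a', ea⟩ := ha
      obtain ⟨m, b', eb⟩ := hb
      exact ⟨n + m, a' * F ^ m + b' * F ^ n, by rw [pow_add, map_add, map_mul, map_mul, map_pow, map_pow, ← ea, ← eb]; ring⟩
  · intro x y hxy
    let T := Localization.Away F
    let e : SymmetricAlgebra R M →+* T := algebraMap _ T
    have huT : IsUnit (e F) := IsLocalization.Away.algebraMap_isUnit F
    let eR : R →+* T := e.comp (algebraMap R _)
    let g0 : R' →+* T := IsLocalization.Away.lift f (g := eR) huT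
    have hg0 : ∀ r, g0 (ψ r) = eR r := fun r => IsLocalization.Away.lift_eq f huT r
    let E : M → T := fun m => e (SymmetricAlgebra.ι R M m)
    have hE : ∀ (r : R) (m : M), E (r • m) = eR r * E m := fun r m => by
      simp only [E, eR, LinearMap.map_smul, Algebra.smul_def, map_mul, RingHom.comp_apply]
    choose nn tt htt using hext
    let u : ∀ n : ℕ, Tˣ := fun n => (huT.pow n).unit
    let gM : M' → T := fun s => E (tt s) * ↑(u (nn s))⁻¹
    have hgM : ∀ (s : M') (n : ℕ) (t : M), g t = ψ f ^ n • s → gM s * e F ^ n = E t := by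
      intro s n t ht
      have h1 : g (f ^ n • tt s) = g (f ^ nn s • t) := by
        rw [g.map_smulₛₗ, g.map_smulₛₗ, htt, ht, map_pow, map_pow, smul_comm]
      obtain ⟨k, hk⟩ := hsep (f ^ n • tt s - f ^ nn s • t) (by rw [map_sub, h1, sub_self])
      have h2 := congrArg E hk
      rw [show E (0 : M) = 0 by simp [E], hE] at h2
      have h3 : E (f ^ n • tt s - f ^ nn s • t) = 0 := by
        rw [show eR (f ^ k) = e F ^ k by simp [eR, hF]] at h2
        exact (huT.pow k).mul_right_eq_zero.1 h2
      have h4 : E (f ^ n • tt s) = E (f ^ nn s • t) := by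
        have : E (f ^ n • tt s - f ^ nn s • t) = E (f ^ n • tt s) - E (f ^ nn s • t) := by simp [E]
        rw [this, sub_eq_zero] at h3
        exact h3
      rw [hE, hE, show eR (f ^ n) = e F ^ n by simp [eR, hF],
        show eR (f ^ nn s) = e F ^ nn s by simp [eR, hF]] at h4
      refine (huT.pow (nn s)).mul_right_cancel ?_
      calc gM s * e F ^ n * e F ^ nn s = e F ^ n * E (tt s) * (↑(u (nn s))⁻¹ * e F ^ nn s) := by
            simp only [gM]; ring
        _ = e F ^ nn s * E t := by rw [IsUnit.val_inv_mul, mul_one, h4]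
        _ = E t * e F ^ nn s := mul_comm _ _
    have hgadd : ∀ a b, gM (a + b) = gM a + gM b := fun a b => by
      refine ((huT.pow (nn a + nn b))).mul_right_cancel ?_
      rw [hgM (a + b) (nn a + nn b) (f ^ nn b • tt a + f ^ nn a • tt b) (by
        rw [map_add, g.map_smulₛₗ, g.map_smulₛₗ, htt, htt, map_pow, map_pow, smul_smul, smul_smul,
          ← pow_add, ← pow_add, add_comm (nn b), smul_add])]
      have hEadd : ∀ p q : M, E (p + q) = E p + E q := fun p q => by simp [E]
      rw [hEadd, hE, hE, show eR (f ^ nn b) = e F ^ nn b by simp [eR, hF],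
        show eR (f ^ nn a) = e F ^ nn a by simp [eR, hF], add_mul, pow_add]
      rw [← hgM a (nn a) (tt a) (htt a), ← hgM b (nn b) (tt b) (htt b)]
      ring
    have hgsmul : ∀ (r' : R') (a : M'), gM (r' • a) = g0 r' * gM a := fun r' a => by
      obtain ⟨⟨r, ⟨_, n, rfl⟩⟩, er⟩ := IsLocalization.surj (Submonoid.powers f) r'
      change r' * ψ (f ^ n) = ψ r at er
      refine ((huT.pow (n + nn a))).mul_right_cancel ?_
      rw [hgM (r' • a) (n + nn a) (r • tt a) (by
        rw [g.map_smulₛₗ, htt, ← er, map_pow, smul_smul, smul_smul, pow_add]; congr 1; ring)]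
      have h5 : g0 r' * e F ^ n = eR r := by
        rw [← hg0, ← er, map_mul, hg0]; simp [eR, hF]
      rw [hE, ← hgM a (nn a) (tt a) (htt a), ← h5, pow_add]
      ring
    letI : _root_.Algebra R' T := g0.toAlgebra
    let back : SymmetricAlgebra R' M' →ₐ[R'] T := SymmetricAlgebra.lift
      ({ toFun := gM, map_add' := hgadd, map_smul' := fun r a => hgsmul r a } : M' →ₗ[R'] T)
    have hcomp : back.toRingHom.comp (symMap ψ g) = e := by
      refine hom_ext (fun r => ?_) fun m => ?_
      · rw [RingHom.comp_apply, symMap_algebraMap]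
        exact (back.commutes _).trans (hg0 r)
      · rw [RingHom.comp_apply, symMap_ι]
        refine (SymmetricAlgebra.lift_ι_apply _ _).trans ?_
        have := hgM (g m) 0 m (by simp)
        simpa using this
    have h6 : e x = e y := by
      rw [← hcomp, RingHom.comp_apply, RingHom.comp_apply]
      exact congrArg _ hxy
    exact IsLocalization.exists_of_eq (M := Submonoid.powers F) h6

end map

end

end Groth.Agent.Lib.SymAlg.Algebra
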