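import Mathlib.LinearAlgebra.SymmetricAlgebra.Basic
import Mathlib.RingTheory.Localization.Away.Basic
import Mathlib.Algebra.Module.LocalizedModule.Basic
import Mathlib.RingTheory.Localization.Module
import Mathlib.Algebra.Module.LocalizedModule.Away

/-!
# Functoriality and localization of symmetric algebras
-/

set_option autoImplicit false
universe u

noncomputable section

namespace Groth.Agent.Lib.SymAlg.Loc

variable {R R' : Type u} [CommRing R] [CommRing R'] {M M' : Type u} [AddCommGroup M] [AddCommGroup M']
  [Module R M] [Module R' M'] (φ : R →+* R') (f : M →+ M') (hf : ∀ (r : R) (m : M), f (r • m) = φ r • f m)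

/-- The map of symmetric algebras induced by a semilinear map. -/
def map : SymmetricAlgebra R M →+* SymmetricAlgebra R' M' :=
  letI : Algebra R (SymmetricAlgebra R' M') := ((algebraMap R' (SymmetricAlgebra R' M')).comp φ).toAlgebra
  (SymmetricAlgebra.lift
    ({ toFun := fun m => SymmetricAlgebra.ι R' M' (f m)
       map_add' := fun a b => by rw [map_add, map_add]
       map_smul' := fun r m => by
        change SymmetricAlgebra.ι R' M' (f (r • m)) = _
        rw [hf, map_smul, Algebra.smul_def]
        rfl } : M →ₗ[R] SymmetricAlgebra R' M')).toRingHom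

@[simp]
theorem map_algebraMap (r : R) : map φ f hf (algebraMap R _ r) = algebraMap R' _ (φ r) := by
  letI : Algebra R (SymmetricAlgebra R' M') := ((algebraMap R' (SymmetricAlgebra R' M')).comp φ).toAlgebra
  exact AlgHom.commutes _ r

@[simp]
theorem map_ι (m : M) : map φ f hf (SymmetricAlgebra.ι R M m) = SymmetricAlgebra.ι R' M' (f m) := by
  letI : Algebra R (SymmetricAlgebra R' M') := ((algebraMap R' (SymmetricAlgebra R' M')).comp φ).toAlgebra
  exact SymmetricAlgebra.lift_ι_apply _ m

omit [Module R' M'] in
/-- Ring maps out of a symmetric algebra are determined by scalars and generators. -/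
theorem ringHom_ext {A : Type u} [CommRing A] {g h : SymmetricAlgebra R M →+* A}
    (h₁ : ∀ r, g (algebraMap R _ r) = h (algebraMap R _ r))
    (h₂ : ∀ m, g (SymmetricAlgebra.ι R M m) = h (SymmetricAlgebra.ι R M m)) : g = h := by
  refine RingHom.ext fun a => ?_
  induction a using SymmetricAlgebra.induction with
  | algebraMap r => exact h₁ r
  | ι x => exact h₂ x
  | mul a b ha hb => rw [map_mul, map_mul, ha, hb]
  | add a b ha hb => rw [map_add, map_add, ha, hb]

/-- The symmetric algebra of a localized module is the localization of the symmetric algebra. -/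
theorem isLocalizationAway (r : R) (hloc : letI := φ.toAlgebra; IsLocalization.Away r R')
    (hsurj : ∀ y : M', ∃ (n : ℕ) (x : M), f x = φ r ^ n • y)
    (hker : ∀ x : M, f x = 0 → ∃ n : ℕ, r ^ n • x = 0) :
    letI := (map φ f hf).toAlgebra
    IsLocalization.Away (algebraMap R (SymmetricAlgebra R M) r) (SymmetricAlgebra R' M') := by
  letI := φ.toAlgebra
  letI : Module R M' := Module.compHom M' φ
  haveI : IsScalarTower R R' M' := ⟨fun a b m => by
    show (a • b) • m = φ a • b • m
    rw [smul_smul, Algebra.smul_def]
    rfl⟩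
  haveI := hloc
  let fl : M →ₗ[R] M' := { f with map_smul' := hf }
  haveI : IsLocalizedModule (.powers r) fl := by
    refine IsLocalizedModule.Away.mk_of_addCommGroup ?_ (fun y => ?_) fun x hx => hker x hx
    · have hu : IsUnit (algebraMap R R' r) := IsLocalization.Away.algebraMap_isUnit r
      have h1 := hu.map (Algebra.lsmul R R M' : R' →ₐ[R] Module.End R M')
      rwa [AlgHom.commutes] at h1
    · obtain ⟨n, x, hx⟩ := hsurj y
      refine ⟨n, x, ?_⟩
      change φ (r ^ n) • y = f x
      rw [map_pow, hx]
  let S := SymmetricAlgebra R M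
  let S' := SymmetricAlgebra R' M'
  let a : S := algebraMap R S r
  let L := Localization.Away a
  have hua : IsUnit (map φ f hf a) := by
    rw [map_algebraMap]
    exact (IsLocalization.Away.algebraMap_isUnit (S := R') r).map _
  let g : L →+* S' := IsLocalization.Away.lift a hua
  have hg : g.comp (algebraMap S L) = map φ f hf := IsLocalization.Away.lift_comp _ hua
  have hur : IsUnit (algebraMap S L (algebraMap R S r)) := IsLocalization.Away.algebraMap_isUnit a
  have hur' : IsUnit (((algebraMap S L).comp (algebraMap R S)) r) := hur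
  let ρ : R' →+* L := IsLocalization.Away.lift r hur'
  have hρ : ∀ x : R, ρ (φ x) = algebraMap S L (algebraMap R S x) := fun x =>
    IsLocalization.Away.lift_eq r hur' x
  letI : Algebra R' L := ρ.toAlgebra
  haveI : IsScalarTower R R' L := IsScalarTower.of_algebraMap_eq fun x => by
    rw [IsScalarTower.algebraMap_apply R S L]
    exact (hρ x).symm
  let m₀ : M →ₗ[R] L := (IsScalarTower.toAlgHom R S L).toLinearMap ∘ₗ SymmetricAlgebra.ι R M
  have huL : ∀ x : Submonoid.powers r, IsUnit (algebraMap R (Module.End R L) x) := fun x => by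
    obtain ⟨n, hn⟩ := x.2
    have h1 : IsUnit (algebraMap R L x.1) := by
      rw [← hn, map_pow, IsScalarTower.algebraMap_apply R S L]
      exact hur.pow n
    have h2 := h1.map (Algebra.lmul R L)
    rwa [AlgHom.commutes] at h2
  let m₁ : M' →ₗ[R] L := IsLocalizedModule.lift (.powers r) fl m₀ huL
  have hm₁ : ∀ m : M, m₁ (f m) = m₀ m := fun m =>
    IsLocalizedModule.lift_apply (.powers r) fl m₀ huL m
  let h : S' →ₐ[R'] L :=
    SymmetricAlgebra.lift (LinearMap.extendScalarsOfIsLocalization (.powers r) R' m₁)
  have hι : ∀ y : M', h (SymmetricAlgebra.ι R' M' y) = m₁ y := fun y => SymmetricAlgebra.lift_ι_apply _ y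
  have hinv₁ : h.toRingHom.comp g = RingHom.id L := by
    refine IsLocalization.ringHom_ext (Submonoid.powers a) ?_
    rw [RingHom.comp_assoc, hg, RingHom.id_comp]
    refine ringHom_ext (fun x => ?_) fun m => ?_
    · rw [RingHom.comp_apply, map_algebraMap]
      exact (h.commutes (φ x)).trans (hρ x)
    · rw [RingHom.comp_apply, map_ι]
      exact (hι _).trans (hm₁ m)
  have hinv₂ : g.comp h.toRingHom = RingHom.id S' := by
    refine ringHom_ext (fun x => ?_) fun y => ?_
    · rw [RingHom.comp_apply, RingHom.id_apply]
      refine (congrArg g (h.commutes x)).trans ?_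
      have h3 : g.comp ρ = algebraMap R' S' := IsLocalization.ringHom_ext (Submonoid.powers r) (RingHom.ext fun z => by
        show g (ρ (φ z)) = algebraMap R' S' (φ z)
        rw [hρ]
        exact (congr($hg (algebraMap R S z))).trans (map_algebraMap φ f hf z))
      exact congr($h3 x)
    · rw [RingHom.comp_apply, RingHom.id_apply]
      obtain ⟨n, x, hx⟩ := hsurj y
      have hu : IsUnit (algebraMap R' S' (φ r ^ n)) :=
        ((IsLocalization.Away.algebraMap_isUnit (S := R') r).pow n).map _
      refine hu.mul_left_cancel ?_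
      have h1 : h.toRingHom (algebraMap R' S' (φ r ^ n)) = ρ (φ r ^ n) := h.commutes _
      have h3 : g (ρ (φ r ^ n)) = algebraMap R' S' (φ r ^ n) := by
        rw [← map_pow φ, hρ]
        exact (congr($hg (algebraMap R S (r ^ n)))).trans (map_algebraMap φ f hf _)
      calc algebraMap R' S' (φ r ^ n) * g (h.toRingHom (SymmetricAlgebra.ι R' M' y))
          = g (h.toRingHom (algebraMap R' S' (φ r ^ n) * SymmetricAlgebra.ι R' M' y)) := by
            rw [map_mul, map_mul, h1, h3]
        _ = g (h.toRingHom (SymmetricAlgebra.ι R' M' (f x))) := by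
            rw [hx, map_smul, Algebra.smul_def]
        _ = g (algebraMap S L (SymmetricAlgebra.ι R M x)) := congrArg g ((hι _).trans (hm₁ x))
        _ = SymmetricAlgebra.ι R' M' (f x) := (congr($hg (SymmetricAlgebra.ι R M x))).trans (map_ι φ f hf x)
        _ = _ := by rw [hx, map_smul, Algebra.smul_def]
  letI : Algebra S S' := (map φ f hf).toAlgebra
  exact IsLocalization.isLocalization_of_algEquiv (Submonoid.powers a)
    (S := L) (AlgEquiv.ofRingEquiv (f := RingEquiv.ofRingHom g h.toRingHom hinv₂ hinv₁) fun z => congr($hg z))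

end Groth.Agent.Lib.SymAlg.Loc
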