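import Groth.Agent.H58VA.RelVA
import Groth.Agent.Lib.Ample.CounitCrit

/-!
# The chart of a relatively very ample module over an affine open
-/

noncomputable section

set_option autoImplicit false
universe u

open CategoryTheory CategoryTheory.Limits AlgebraicGeometry Opposite TopologicalSpace
open scoped HomogeneousIdeal

namespace Groth.Agent.Lib.SymAlg.VA

open Groth.Agent.Lib Groth.Agent.H58VA TensorMod TensorMod.Gen Ample.GenLocus Ample.GG

variable {X S P : Scheme.{u}} {f : X ⟶ S} {𝒮 : RelProj.QCGrAlg S} {p : P ⟶ S}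
  {chart : ∀ (U : S.Opens) (hU : IsAffineOpen U), ((p ⁻¹ᵁ U : P.Opens) : Scheme.{u}) ≅ Proj (𝒮.deg U hU)}

/-- The restriction of a morphism to a chart. -/
def kMap (i : X ⟶ P) (hcomp : i ≫ p = f) {V : S.Opens} (hV : IsAffineOpen V) :
    (f ⁻¹ᵁ V : Scheme.{u}) ⟶ Proj (𝒮.deg V hV) :=
  i.resLE (p ⁻¹ᵁ V) (f ⁻¹ᵁ V) (le_of_eq (by rw [← hcomp]; rfl)) ≫ (chart V hV).hom

theorem kMap_emb (i : X ⟶ P) (hcomp : i ≫ p = f) {V : S.Opens} (hV : IsAffineOpen V) :
    kMap (chart := chart) i hcomp hV ≫ RelProj.emb p chart V hV = (f ⁻¹ᵁ V).ι ≫ i := by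
  simp only [kMap, RelProj.emb, Category.assoc, Iso.hom_inv_id_assoc, Scheme.Hom.resLE_comp_ι]

theorem isImmersion_kMap (i : X ⟶ P) [IsImmersion i] (hcomp : i ≫ p = f) {V : S.Opens}
    (hV : IsAffineOpen V) : IsImmersion (kMap (chart := chart) i hcomp hV) := by
  have : IsImmersion (i.resLE (p ⁻¹ᵁ V) (f ⁻¹ᵁ V) (le_of_eq (by rw [← hcomp]; rfl))) := by
    have : IsImmersion (i.resLE (p ⁻¹ᵁ V) (f ⁻¹ᵁ V) (le_of_eq (by rw [← hcomp]; rfl)) ≫
        (p ⁻¹ᵁ V).ι) := by rw [Scheme.Hom.resLE_comp_ι]; infer_instance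
    exact IsImmersion.of_comp _ (p ⁻¹ᵁ V).ι
  unfold kMap
  infer_instance

variable {O1 : P.Modules}
  {lam : ∀ (U : S.Opens) (hU : IsAffineOpen U),
    O1 ⟶ (Scheme.Modules.pushforward (RelProj.emb p chart U hU)).obj (GrTwist.twist (𝒮.deg U hU) 1)}

/-- Over an affine open the inverse image of `O(1)` is the inverse image of `O(1)` along the chart map. -/
theorem kMap_iso (hO : RelProj.IsRelTwist 𝒮 p chart 1 O1 lam) (i : X ⟶ P) (hcomp : i ≫ p = f)
    {V : S.Opens} (hV : IsAffineOpen V) :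
    Nonempty ((Scheme.Modules.pullback (kMap (chart := chart) i hcomp hV)).obj (GrTwist.twist (𝒮.deg V hV) 1) ≅
      ((Scheme.Modules.pullback i).obj O1).restrict (f ⁻¹ᵁ V).ι) := by
  obtain ⟨ε⟩ := RelVA.pullback_emb_iso hO hV
  exact ⟨(Scheme.Modules.pullback _).mapIso ε.symm ≪≫
    (Scheme.Modules.pullbackComp _ (RelProj.emb p chart V hV)).app O1 ≪≫
    (Scheme.Modules.pullbackCongr (kMap_emb i hcomp hV)).app O1 ≪≫
    ((Scheme.Modules.pullbackComp (f ⁻¹ᵁ V).ι i).app O1).symm ≪≫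
    ((Scheme.Modules.restrictFunctorIsoPullback _).app _).symm⟩

/-- A degree-one element gives a section of the inverse image of `O(1)` with the expected locus. -/
theorem exists_section {T : Scheme.{u}} {A σ : Type u} [CommRing A] [SetLike σ A] [AddSubgroupClass σ A]
    {𝒜 : ℕ → σ} [GradedRing 𝒜] (hcov : ∀ x : ProjectiveSpectrum 𝒜, ∃ g ∈ 𝒜 1, g ∉ x.asHomogeneousIdeal)
    (k : T ⟶ Proj 𝒜) {g : A} (hg : g ∈ 𝒜 1) :
    ∃ s : Coh.structureModule T ⟶ (Scheme.Modules.pullback k).obj (GrTwist.twist 𝒜 1),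
      CohB1.genLocus _ s = k ⁻¹ᵁ Proj.basicOpen 𝒜 g := by
  obtain ⟨s, hs⟩ := exists_hom_of_sec (L := GrTwist.twist 𝒜 ((1 : ℕ) : ℤ)) (GrTwistOne.oneSec hg)
  refine ⟨(PicLoc.pullbackStructureIso k).inv ≫ (Scheme.Modules.pullback k).map s, ?_⟩
  have h := genLocus_pullback k ((GrTwistOne.isInvertible_twist (d := 1) hcov)) s (PicLoc.pullbackStructureIso k).symm
  rw [GrTwistOne.genLocus_oneSec hg s hs hcov] at h
  exact h

theorem genAt {T : Scheme.{u}} {A σ : Type u} [CommRing A] [SetLike σ A] [AddSubgroupClass σ A]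
    {𝒜 : ℕ → σ} [GradedRing 𝒜] (hcov : ∀ x : ProjectiveSpectrum 𝒜, ∃ g ∈ 𝒜 1, g ∉ x.asHomogeneousIdeal)
    (k : T ⟶ Proj 𝒜) (z : T) :
    GenAt ((Scheme.Modules.pullback k).obj (GrTwist.twist 𝒜 1)) z := by
  obtain ⟨g, hg, hgx⟩ := hcov (k z)
  obtain ⟨s, hs⟩ := exists_section hcov k hg
  refine genAt_of_mem_genLocus s ?_
  rw [hs]
  exact hgx

/-- The inverse image of `O(1)` of a projective bundle has an epimorphic counit. -/
theorem epi_counit {E : S.Modules} (hE : Coh.IsQCoh E) {j : E ⟶ 𝒮.toModule}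
    (hS : RelProj.IsGrSymAlg E 𝒮 j) (hO : RelProj.IsRelTwist 𝒮 p chart 1 O1 lam)
    (i : X ⟶ P) (hcomp : i ≫ p = f) :
    Epi ((Scheme.Modules.pullbackPushforwardAdjunction f).counit.app
      ((Scheme.Modules.pullback i).obj O1)) := by
  have : E.IsQuasicoherent := hE
  refine (Modules.Stalk.epi_iff_stalk_surjective _).2 fun x
    (v : ((Scheme.Modules.pullback i).obj O1).presheaf.stalk x) => ?_
  obtain ⟨V, hV, hxV, -⟩ := exists_isAffineOpen_mem_and_subset (X := S) (x := f x) (U := ⊤) (memTop _)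
  obtain ⟨ι'⟩ := kMap_iso hO i hcomp hV
  have hr := Ample.CounitCrit.range_counit_eq_top f _ V ι' ⟨x, hxV⟩
    (genAt (RelVA.exists_degOne_notMem hS hV) _ _)
  change LinearMap.range (Modules.StalkModule.stalkMapₗ _ x) = ⊤ at hr
  exact hr.ge (Submodule.mem_top (x := v))

end Groth.Agent.Lib.SymAlg.VA
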